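import Cfsg.Agent.H494.Good
import Cfsg.Agent.S2467
import Cfsg.Agent.StandardComponent.AltAut

/-!
# The alternating rows
-/

set_option autoImplicit false
set_option linter.style.haveILetI false

namespace Cfsg.Agent.H494.AltRow

open Subgroup Cfsg Cfsg.Agent.H494.Good Equiv Equiv.Perm

universe u

/-- `A_5 → A_n` -/
theorem exists_emb {n : ℕ} (hn : 5 ≤ n) :
    ∃ f : alternatingGroup (Fin 5) →* alternatingGroup (Fin n), Function.Injective f := by
  let e : Fin 5 ≃ {i : Fin n // (i : ℕ) < 5} :=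
    { toFun := fun i => ⟨⟨i, by omega⟩, i.2⟩
      invFun := fun i => ⟨i.1, i.2⟩
      left_inv := fun i => rfl
      right_inv := fun i => rfl }
  let g : Perm (Fin 5) →* Perm (Fin n) := extendDomainHom e
  have hg : Function.Injective g := extendDomainHom_injective e
  have hs : ∀ σ : Perm (Fin 5), sign (g σ) = sign σ := fun σ => sign_extendDomain σ e
  refine ⟨(g.comp (alternatingGroup (Fin 5)).subtype).codRestrict _ ?_, ?_⟩
  · intro σ
    rw [mem_alternatingGroup]
    exact (hs _).trans (mem_alternatingGroup.1 σ.2)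
  · intro a b h
    exact Subtype.ext (hg (congrArg Subtype.val h))

theorem even_three : EvenLoc 3 (alternatingGroup (Fin 5)) := by
  let x : alternatingGroup (Fin 5) := ⟨c[0, 1, 2], mem_alternatingGroup.2 (by decide +kernel)⟩
  let y : alternatingGroup (Fin 5) := ⟨c[0, 1] * c[3, 4], mem_alternatingGroup.2 (by decide +kernel)⟩
  haveI : Fact (Nat.Prime 3) := ⟨Nat.prime_three⟩
  refine EvenLoc.of_real Nat.prime_three (by norm_num) (x := x) (y := y) ?_ ?_
  · exact orderOf_eq_prime (by decide +kernel) (by decide +kernel)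
  · decide +kernel

theorem even_five : EvenLoc 5 (alternatingGroup (Fin 5)) := by
  let x : alternatingGroup (Fin 5) := ⟨c[0, 1, 2, 3, 4], mem_alternatingGroup.2 (by decide +kernel)⟩
  let y : alternatingGroup (Fin 5) := ⟨c[1, 4] * c[2, 3], mem_alternatingGroup.2 (by decide +kernel)⟩
  haveI : Fact (Nat.Prime 5) := ⟨Nat.prime_five⟩
  refine EvenLoc.of_real Nat.prime_five (by norm_num) (x := x) (y := y) ?_ ?_
  · exact orderOf_eq_prime (by decide +kernel) (by decide +kernel)
  · decide +kernel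

theorem outFix_alt {n p : ℕ} (hn : 7 ≤ n) (hp : Odd p) : OutFix p (alternatingGroup (Fin n)) := by
  refine OutFix.of_sq hp fun φ => ?_
  obtain ⟨m, rfl⟩ : ∃ m, n = m + 2 := ⟨n - 2, by omega⟩
  obtain ⟨σ, hσ⟩ := StandardComponent.AltAut.exists_conj (m := m) (by omega) φ
  have hs : σ * σ ∈ alternatingGroup (Fin (m + 2)) := by
    rw [Equiv.Perm.mem_alternatingGroup, map_mul]
    exact Int.units_mul_self _
  refine ⟨⟨σ * σ, hs⟩, ?_⟩
  rw [sq]
  apply MulEquiv.ext
  intro x
  apply Subtype.ext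
  rw [MulAut.mul_apply, hσ, hσ]
  change σ * σ * (x : Equiv.Perm (Fin (m + 2))) * (σ * σ)⁻¹ = σ * (σ * (x : Equiv.Perm (Fin (m + 2))) * σ⁻¹) * σ⁻¹
  group

theorem not_sq_dvd {n p : ℕ} (hp : p.Prime) (h : n < 2 * p) : ¬ p ^ 2 ∣ n.factorial := by
  intro hd
  have h2 : 2 ≤ padicValNat p n.factorial := by
    haveI : Fact p.Prime := ⟨hp⟩
    exact (padicValNat_dvd_iff_le (Nat.factorial_ne_zero n)).1 hd
  haveI : Fact p.Prime := ⟨hp⟩
  have h3 := sub_one_mul_padicValNat_factorial (p := p) n
  have h4 : padicValNat p n.factorial ≤ 1 := by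
    rw [padicValNat_factorial (b := 2) ?_]
    · rw [Finset.sum_Ico_eq_sum_range]
      simp only [Nat.add_one_sub_one, Finset.range_one, Finset.sum_singleton, add_zero, pow_one]
      exact Nat.lt_succ_iff.1 (Nat.div_lt_of_lt_mul (by omega))
    · refine Nat.log_lt_of_lt_pow' (by norm_num) ?_
      have := hp.two_le
      nlinarith
  omega

/-- **the row of `A_n`** -/
theorem alt {K : Type u} [Group K] [Finite K] {n p : ℕ} (hn : 5 ≤ n) (hp : p.Prime) (hp2 : p ≠ 2)
    (hd : p ∣ Nat.card K) (e : K ≃* alternatingGroup (Fin n)) : Row p K := by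
  refine Row.congr e.symm ?_
  rw [Nat.card_congr e.toEquiv] at hd
  haveI : Nontrivial (Fin n) := Fin.nontrivial_iff_two_le.2 (by omega)
  have hcard : 2 * Nat.card (alternatingGroup (Fin n)) = n.factorial := by
    rw [nat_card_alternatingGroup, Nat.card_eq_fintype_card, Fintype.card_fin]
    exact Nat.mul_div_cancel' (Nat.dvd_factorial (by norm_num) (by omega))
  have hpn : p ≤ n := by
    rw [← hp.dvd_factorial, ← hcard]
    exact hd.mul_left 2
  obtain ⟨f, hf⟩ := exists_emb hn
  by_cases h3 : p = 3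
  · subst h3
    exact Or.inr (Or.inl (even_three.of_injective f hf))
  by_cases h5 : p = 5
  · subst h5
    exact Or.inr (Or.inl (even_five.of_injective f hf))
  have h7 : 7 ≤ p := by
    have h4 : p ≠ 4 := by rintro rfl; norm_num at hp
    have h6 : p ≠ 6 := by rintro rfl; norm_num at hp
    have := hp.two_le
    omega
  by_cases h4 : p + 4 ≤ n
  · exact Or.inl ((S2467.result n p (by omega) hp (by omega) hpn).2 h4)
  · refine Or.inr (Or.inr ⟨?_, outFix_alt (by omega) (hp.odd_of_ne_two hp2)⟩)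
    refine Ab.of_not_dvd hp fun hd3 => not_sq_dvd hp (show n < 2 * p by omega) ?_
    rw [← hcard]
    exact (dvd_trans (pow_dvd_pow p (by norm_num)) hd3).mul_left 2

end Cfsg.Agent.H494.AltRow
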