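import Cfsg.Agent.H494.DimLemma
import Cfsg.Agent.H494.SLHom
import Cfsg.Agent.S0778
import Cfsg.Agent.S0248
import Cfsg.Prelude.Def_Classical

/-!
# Linear, symplectic and orthogonal groups in cross characteristic

For `K = PSL_n(q)`, `PSp_{2m}(q)`, `PΩ(q)` and an odd prime `p ∤ q`: an element of order `2p`, or a real element of
order `p`, or the `p`-subgroups are abelian.
-/

set_option autoImplicit false
set_option linter.style.haveILetI false

namespace Cfsg.Agent.H494.ClassHom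

open Subgroup Cfsg Cfsg.Agent.H494.Good Cfsg.Agent.H494.SLHom Matrix

universe u

/-- nonabelian `p`-subgroups of quotients lift -/
theorem exists_lift {X : Type*} [Group X] [Finite X] (N : Subgroup X) [N.Normal] {p : ℕ} [Fact p.Prime]
    (P : Subgroup (X ⧸ N)) (hP : IsPGroup p P) (hna : ¬ IsMulCommutative ↥P) :
    ∃ Q : Subgroup X, IsPGroup p Q ∧ ¬ IsMulCommutative ↥Q := by
  obtain ⟨R, hR⟩ := hP.exists_le_sylow
  obtain ⟨Q, hQ⟩ := Sylow.mapSurjective_surjective (QuotientGroup.mk'_surjective N) p R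
  refine ⟨Q, Q.isPGroup', fun hc => hna ?_⟩
  have h1 : ∀ x ∈ P, ∃ y ∈ (Q : Subgroup X), QuotientGroup.mk' N y = x := by
    intro x hx
    have h2 : x ∈ (Q.mapSurjective (QuotientGroup.mk'_surjective N) : Subgroup (X ⧸ N)) := by
      rw [hQ]
      exact hR hx
    obtain ⟨y, hy, hyx⟩ := h2
    exact ⟨y, hy, hyx⟩
  refine ⟨⟨fun a b => Subtype.ext ?_⟩⟩
  obtain ⟨y, hy, hya⟩ := h1 a a.2
  obtain ⟨z, hz, hzb⟩ := h1 b b.2
  have h2 : y * z = z * y := congrArg Subtype.val (hc.is_comm.comm ⟨y, hy⟩ ⟨z, hz⟩)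
  change (a : X ⧸ N) * b = b * a
  rw [← hya, ← hzb, ← map_mul, ← map_mul, h2]

/-- `e = ord_p(q) ≥ 3` forces `p ≥ 5` -/
theorem five_le {p e q : ℕ} (hp : p.Prime) (hpq : ¬ p ∣ q) (he : e = orderOf (q : ZMod p)) (he3 : 3 ≤ e) :
    5 ≤ p := by
  haveI : Fact p.Prime := ⟨hp⟩
  have h1 : e ∣ p - 1 := by
    rw [he]
    exact ZMod.orderOf_dvd_card_sub_one (by rwa [Ne, ZMod.natCast_eq_zero_iff])
  have h2 : 0 < p - 1 := by have := hp.two_le; omega
  have h3 := Nat.le_of_dvd h2 h1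
  have h4 : p ≠ 4 := by rintro rfl; norm_num at hp
  omega

theorem dvd_pow_sub_one_iff {p q k : ℕ} (hq : 0 < q) : p ∣ q ^ k - 1 ↔ (q : ZMod p) ^ k = 1 := by
  have h1 : 1 ≤ q ^ k := Nat.one_le_pow _ _ hq
  rw [← ZMod.natCast_eq_zero_iff, Nat.cast_sub h1, sub_eq_zero]
  push_cast
  rfl

variable {F : Type*} [Field F] [Fintype F] {ι : Type*} [Fintype ι] [DecidableEq ι]

/-- The general row. -/
theorem general {K : Type u} [Group K] [Finite K] {p w : ℕ} (hp : p.Prime) (hp2 : p ≠ 2) (hpF : (p : F) ≠ 0)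
    (hw : 2 ≤ w) (hι : Fintype.card ι ≤ 2 * w + 2) (f : SpecialLinearGroup (Fin w) F →* K) (hf : KC f)
    {X : Type*} [Group X] [Finite X] (N : Subgroup X) [N.Normal] (e : K ≃* X ⧸ N) (ρ : X →* (Matrix ι ι F)ˣ)
    (hρ : Function.Injective ρ) : TwoP p K ∨ EvenLoc p K ∨ Ab p K := by
  haveI : Fact p.Prime := ⟨hp⟩
  have hq : 0 < Fintype.card F := Fintype.card_pos
  by_cases h2 : p ∣ Fintype.card F ^ 2 - 1
  · exact Or.inr (Or.inl (evenLoc_of_hom hp hp2 hpF h2 hw f hf))
  by_cases hab : Ab p K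
  · exact Or.inr (Or.inr hab)
  left
  -- a nonabelian `p`-subgroup
  have hna : ∃ P : Subgroup (X ⧸ N), IsPGroup p P ∧ ¬ IsMulCommutative ↥P := by
    by_contra hall
    push Not at hall
    exact hab (Ab.congr e.symm hall)
  obtain ⟨P, hP, hPna⟩ := hna
  obtain ⟨Q, hQ, hQna⟩ := exists_lift N P hP hPna
  have hdim := DimLemma.dim_le (F := F) (n := ι) hp hpF hQ hQna (ρ.comp Q.subtype)
    (hρ.comp Q.subtype_injective)
  have hpq : ¬ p ∣ Fintype.card F := by
    intro h
    apply hpF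
    obtain ⟨ℓ, hℓ⟩ := CharP.exists F
    have hℓp : ℓ.Prime := (CharP.char_is_prime_or_zero F ℓ).resolve_right (CharP.char_ne_zero_of_finite F ℓ)
    obtain ⟨k, -, hk⟩ := FiniteField.card F ℓ
    rw [hk] at h
    have h3 := (Nat.prime_dvd_prime_iff_eq hp hℓp).1 (hp.dvd_of_dvd_pow h)
    rw [h3]
    exact CharP.cast_eq_zero F ℓ
  set d := orderOf (Fintype.card F : ZMod p) with hd
  have hd0 : 0 < d := by
    rw [hd, orderOf_pos_iff, isOfFinOrder_iff_pow_eq_one]
    refine ⟨p - 1, by have := hp.two_le; omega, ZMod.pow_card_sub_one_eq_one ?_⟩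
    rwa [Ne, ZMod.natCast_eq_zero_iff]
  have hd3 : 3 ≤ d := by
    by_contra hlt
    apply h2
    rw [dvd_pow_sub_one_iff hq, ← orderOf_dvd_iff_pow_eq_one, ← hd]
    have : d = 1 ∨ d = 2 := by omega
    rcases this with h | h <;> rw [h]
    exact one_dvd _
  have hp5 := five_le hp hpq hd hd3
  have hdvd : p ∣ Fintype.card F ^ d - 1 := by
    rw [dvd_pow_sub_one_iff hq, hd]
    exact pow_orderOf_eq_one _
  have hd1 : ¬ p ∣ Fintype.card F - 1 := by
    intro h
    have h3 : p ∣ Fintype.card F ^ 1 - 1 := by rwa [pow_one]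
    rw [dvd_pow_sub_one_iff hq, ← orderOf_dvd_iff_pow_eq_one, ← hd] at h3
    have := Nat.le_of_dvd one_pos h3
    omega
  refine twoP_of_hom hp hp2 hd0 hdvd hd1 ?_ f hf
  nlinarith

/-- composition of an injective homomorphism with the quotient by the centre has central kernel -/
theorem kc_mk {X Y : Type*} [Group X] [Group Y] (θ : X →* Y) (hθ : Function.Injective θ) :
    KC ((QuotientGroup.mk' (center Y)).comp θ) := by
  intro x hx
  have h1 : θ x ∈ center Y := (QuotientGroup.eq_one_iff _).1 hx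
  rw [mem_center_iff] at h1 ⊢
  intro z
  apply hθ
  rw [map_mul, map_mul]
  exact h1 (θ z)

theorem KC.equiv {X : Type*} {K : Type*} {L : Type*} [Group X] [Group K] [Group L] {f : X →* K} (h : KC f)
    (e : K ≃* L) : KC (e.toMonoidHom.comp f) := by
  intro x hx
  apply h
  have h1 : e (f x) = 1 := hx
  exact (map_eq_one_iff e e.injective).1 h1

/-- **`PSL_n(q)`** -/
theorem psl {K : Type u} [Group K] [Finite K] {p n : ℕ} (hp : p.Prime) (hp2 : p ≠ 2) (hpF : (p : F) ≠ 0)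
    (hn : 2 ≤ n) (e : K ≃* Matrix.ProjectiveSpecialLinearGroup (Fin n) F) : TwoP p K ∨ EvenLoc p K ∨ Ab p K := by
  classical
  refine general (ι := Fin n) hp hp2 hpF hn (by rw [Fintype.card_fin]; omega)
    (e.symm.toMonoidHom.comp ((QuotientGroup.mk' (center (SpecialLinearGroup (Fin n) F))).comp (MonoidHom.id _)))
    (KC.equiv (kc_mk _ Function.injective_id) e.symm) (center (SpecialLinearGroup (Fin n) F)) e
    (SpecialLinearGroup.toGL) SpecialLinearGroup.toGL_injective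

/-- matrices in the symplectic group as units -/
def spUnits (m : ℕ) (F : Type*) [Field F] : symplecticGroup (Fin m) F →* (Matrix (Fin m ⊕ Fin m) (Fin m ⊕ Fin m) F)ˣ :=
  MonoidHom.toHomUnits (symplecticGroup (Fin m) F).subtype

theorem spUnits_injective (m : ℕ) (F : Type*) [Field F] : Function.Injective (spUnits m F) := by
  intro a b h
  exact Subtype.ext (congrArg Units.val h)

/-- **`PSp_{2m}(q)`** -/
theorem psp {K : Type u} [Group K] [Finite K] {p m : ℕ} (hp : p.Prime) (hp2 : p ≠ 2) (hpF : (p : F) ≠ 0)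
    (hm : 2 ≤ m) (e : K ≃* PSp m F) : TwoP p K ∨ EvenLoc p K ∨ Ab p K := by
  classical
  haveI : Finite (symplecticGroup (Fin m) F) := Subtype.finite
  have hinj : Function.Injective ((S0778.blkHom (F := F) m).comp (SpecialLinearGroup.toGL)) := by
    intro a b h
    have h1 : fromBlocks (a : Matrix (Fin m) (Fin m) F) 0 0 _ = fromBlocks (b : Matrix (Fin m) (Fin m) F) 0 0 _ :=
      congrArg Subtype.val h
    exact sl_ext (fromBlocks_inj.1 h1).1
  exact general (ι := Fin m ⊕ Fin m) hp hp2 hpF hm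
    (by rw [Fintype.card_sum, Fintype.card_fin]; omega)
    (e.symm.toMonoidHom.comp ((QuotientGroup.mk' (center (symplecticGroup (Fin m) F))).comp
      ((S0778.blkHom (F := F) m).comp (SpecialLinearGroup.toGL))))
    (KC.equiv (kc_mk _ hinj) e.symm) (center (symplecticGroup (Fin m) F)) e (spUnits m F) (spUnits_injective m F)

/-- `SL_m → SL_m × SL_m^*` on a hyperbolic space -/
def hypM (m : ℕ) (F : Type*) [Field F] :
    SpecialLinearGroup (Fin m) F →* Matrix (Fin m ⊕ Fin m) (Fin m ⊕ Fin m) F where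
  toFun A := fromBlocks A.1 0 0 (A⁻¹).1ᵀ
  map_one' := by
    rw [inv_one]
    change fromBlocks (1 : Matrix (Fin m) (Fin m) F) 0 0 (1 : Matrix (Fin m) (Fin m) F)ᵀ = 1
    rw [transpose_one, fromBlocks_one]
  map_mul' A B := by
    rw [_root_.mul_inv_rev]
    change fromBlocks (A.1 * B.1) 0 0 ((B⁻¹).1 * (A⁻¹).1)ᵀ = fromBlocks A.1 0 0 (A⁻¹).1ᵀ * fromBlocks B.1 0 0 (B⁻¹).1ᵀ
    rw [fromBlocks_multiply, transpose_mul]
    simp

theorem hypM_dot (m : ℕ) (F : Type*) [Field F] (A : SpecialLinearGroup (Fin m) F) (x y : Fin m → F) :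
    (A.1 *ᵥ x) ⬝ᵥ ((A⁻¹).1ᵀ *ᵥ y) = x ⬝ᵥ y := by
  have h1 : (A⁻¹).1 * A.1 = 1 := by
    have : A⁻¹ * A = 1 := inv_mul_cancel A
    exact congrArg Subtype.val this
  rw [mulVec_transpose, dotProduct_comm, ← dotProduct_mulVec, mulVec_mulVec, h1, one_mulVec, dotProduct_comm]

section orth

variable {κ : Type} [Fintype κ] [DecidableEq κ]

/-- The orthogonal rows. -/
theorem orth {K : Type u} [Group K] [Finite K] {p w : ℕ} (hp : p.Prime) (hp2 : p ≠ 2) (hpF : (p : F) ≠ 0)
    (hw : 3 ≤ w) (hι : Fintype.card κ ≤ 2 * w + 2) (Q : (κ → F) → F) (e : K ≃* POmega F Q)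
    (θ : SpecialLinearGroup (Fin w) F →* Matrix κ κ F) (hθ : Function.Injective θ)
    (hQ : ∀ A v, Q (θ A *ᵥ v) = Q v) : TwoP p K ∨ EvenLoc p K ∨ Ab p K := by
  classical
  haveI : Finite (GL κ F) := inferInstance
  let θ1 : SpecialLinearGroup (Fin w) F →* isometryGroup F Q :=
    θ.toHomUnits.codRestrict _ fun A => by
      intro u v
      exact hQ A u
  have hθ1 : Function.Injective θ1 := by
    intro a b h
    apply hθ
    have h1 : (θ1 a : GL κ F) = θ1 b := congrArg Subtype.val h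
    exact congrArg Units.val h1
  let θ2 : SpecialLinearGroup (Fin w) F →* Omega F Q := θ1.codRestrict _ fun A => by
    have h1 : A ∈ commutator (SpecialLinearGroup (Fin w) F) := by
      rw [S0248.result w hw]
      trivial
    have h2 : θ1 A ∈ (commutator (SpecialLinearGroup (Fin w) F)).map θ1 := ⟨A, h1, rfl⟩
    rw [commutator_def, Subgroup.map_commutator] at h2
    exact Subgroup.commutator_mono le_top le_top h2
  have hθ2 : Function.Injective θ2 := by
    intro a b h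
    exact hθ1 (congrArg Subtype.val h)
  exact general (ι := κ) hp hp2 hpF (by omega) hι
    (e.symm.toMonoidHom.comp ((QuotientGroup.mk' (center (Omega F Q))).comp θ2))
    (KC.equiv (kc_mk _ hθ2) e.symm) (center (Omega F Q)) e
    ((isometryGroup F Q).subtype.comp (Omega F Q).subtype)
    ((isometryGroup F Q).subtype_injective.comp (Omega F Q).subtype_injective)

theorem omegaPlus {K : Type u} [Group K] [Finite K] {p m : ℕ} (hp : p.Prime) (hp2 : p ≠ 2) (hpF : (p : F) ≠ 0)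
    (hm : 3 ≤ m) (e : K ≃* POmega F (quadFormPlus m F)) : TwoP p K ∨ EvenLoc p K ∨ Ab p K := by
  refine orth hp hp2 hpF hm (by rw [Fintype.card_sum, Fintype.card_fin]; omega) _ e (hypM m F) ?_ ?_
  · intro a b h
    exact sl_ext (fromBlocks_inj.1 h).1
  · intro A v
    have h1 := hypM_dot m F A (fun i => v (.inl i)) (fun i => v (.inr i))
    have h2 : hypM m F A *ᵥ v = Sum.elim (A.1 *ᵥ fun i => v (.inl i)) ((A⁻¹).1ᵀ *ᵥ fun i => v (.inr i)) := by
      change fromBlocks A.1 0 0 (A⁻¹).1ᵀ *ᵥ v = _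
      rw [fromBlocks_mulVec]
      simp only [zero_mulVec, add_zero, zero_add]
      rfl
    rw [h2]
    exact h1

theorem omegaOdd {K : Type u} [Group K] [Finite K] {p m : ℕ} (hp : p.Prime) (hp2 : p ≠ 2) (hpF : (p : F) ≠ 0)
    (hm : 3 ≤ m) (e : K ≃* POmega F (quadFormOdd m F)) : TwoP p K ∨ EvenLoc p K ∨ Ab p K := by
  let θ : SpecialLinearGroup (Fin m) F →* Matrix (Unit ⊕ (Fin m ⊕ Fin m)) (Unit ⊕ (Fin m ⊕ Fin m)) F :=
    { toFun := fun A => fromBlocks 1 0 0 (hypM m F A)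
      map_one' := by rw [map_one, fromBlocks_one]
      map_mul' := fun A B => by rw [map_mul, fromBlocks_multiply]; simp }
  refine orth hp hp2 hpF hm (by rw [Fintype.card_sum, Fintype.card_sum, Fintype.card_fin, Fintype.card_unit]; omega) _
    e θ ?_ ?_
  · intro a b h
    have h1 := (fromBlocks_inj.1 h).2.2.2
    exact sl_ext (fromBlocks_inj.1 h1).1
  · intro A v
    have h1 := hypM_dot m F A (fun i => v (.inr (.inl i))) (fun i => v (.inr (.inr i)))
    have h2 : θ A *ᵥ v = Sum.elim (fun i => v (.inl i)) (Sum.elim (A.1 *ᵥ fun i => v (.inr (.inl i)))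
        ((A⁻¹).1ᵀ *ᵥ fun i => v (.inr (.inr i)))) := by
      change fromBlocks 1 0 0 (fromBlocks A.1 0 0 (A⁻¹).1ᵀ) *ᵥ v = _
      rw [fromBlocks_mulVec, fromBlocks_mulVec]
      simp only [zero_mulVec, add_zero, zero_add, one_mulVec]
      rfl
    rw [h2]
    change v (.inl ()) ^ 2 + (A.1 *ᵥ fun i => v (.inr (.inl i))) ⬝ᵥ ((A⁻¹).1ᵀ *ᵥ fun i => v (.inr (.inr i))) = _
    rw [h1]
    rfl

theorem omegaMinus {K : Type u} [Group K] [Finite K] {p m : ℕ} (hp : p.Prime) (hp2 : p ≠ 2) (hpF : (p : F) ≠ 0)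
    (hm : 3 ≤ m) (a b : F) (e : K ≃* POmega F (quadFormMinus m F a b)) : TwoP p K ∨ EvenLoc p K ∨ Ab p K := by
  let θ : SpecialLinearGroup (Fin m) F →* Matrix ((Fin m ⊕ Fin m) ⊕ Fin 2) ((Fin m ⊕ Fin m) ⊕ Fin 2) F :=
    { toFun := fun A => fromBlocks (hypM m F A) 0 0 1
      map_one' := by rw [map_one, fromBlocks_one]
      map_mul' := fun A B => by rw [map_mul, fromBlocks_multiply]; simp }
  refine orth hp hp2 hpF hm (by rw [Fintype.card_sum, Fintype.card_sum, Fintype.card_fin, Fintype.card_fin]; omega) _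
    e θ ?_ ?_
  · intro a b h
    have h1 := (fromBlocks_inj.1 h).1
    exact sl_ext (fromBlocks_inj.1 h1).1
  · intro A v
    have h1 := hypM_dot m F A (fun i => v (.inl (.inl i))) (fun i => v (.inl (.inr i)))
    have h2 : θ A *ᵥ v = Sum.elim (Sum.elim (A.1 *ᵥ fun i => v (.inl (.inl i)))
        ((A⁻¹).1ᵀ *ᵥ fun i => v (.inl (.inr i)))) (fun i => v (.inr i)) := by
      change fromBlocks (fromBlocks A.1 0 0 (A⁻¹).1ᵀ) 0 0 1 *ᵥ v = _
      rw [fromBlocks_mulVec, fromBlocks_mulVec]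
      simp only [zero_mulVec, add_zero, zero_add, one_mulVec]
      rfl
    rw [h2]
    change (A.1 *ᵥ fun i => v (.inl (.inl i))) ⬝ᵥ ((A⁻¹).1ᵀ *ᵥ fun i => v (.inl (.inr i))) + _ = _
    rw [h1]
    rfl

end orth

end Cfsg.Agent.H494.ClassHom
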