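import Cfsg.Agent.H494.Good
import Cfsg.Agent.H388.EvenFixSylow

/-!
# Groups with a split (B, N)-pair of characteristic `l`, primes `p ≠ l`

* `evenLoc_of_split` : if `p` divides the order of `B`, then some nontrivial `p`-subgroup (a Sylow `p`-subgroup of
  the torus) has a normalizer of even order;
* `outFix_of_split` : if not, then outer automorphisms of order `p` modulo the inner ones can be chosen to centralise
  an involution;
* `row_of_split`.
-/

set_option autoImplicit false
set_option linter.style.haveILetI false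

namespace Cfsg.Agent.H494.Cross

open Subgroup Cfsg Cfsg.Agent.H494.Good
open Cfsg.Agent.FixBN (HasSplit Split)
open scoped Pointwise

universe u

variable {K : Type u} [Group K] [Finite K]

section split

variable {P : Cfsg.BNPair K} {l : ℕ} {U : Subgroup K}

/-- `U` is a Sylow subgroup -/
theorem sylow_eq [hl : Fact l.Prime] (h : Split P l U) (Q : Sylow l K) (hQ : U ≤ Q) : (Q : Subgroup K) = U := by
  by_contra hne
  have hlt : U < (Q : Subgroup K) := lt_of_le_of_ne hQ (Ne.symm hne)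
  -- normalizers grow
  have h1 : (U.subgroupOf Q) < normalizer ((U.subgroupOf Q : Subgroup Q) : Set Q) := by
    haveI : Group.IsNilpotent Q := Q.isPGroup'.isNilpotent
    refine (normalizerCondition_of_isNilpotent) _ ?_
    rw [lt_top_iff_ne_top]
    intro htop
    rw [subgroupOf_eq_top] at htop
    exact hne (le_antisymm htop hQ)
  obtain ⟨x, hx, hxU⟩ := SetLike.exists_of_lt h1
  have hxB : (x : K) ∈ P.B := by
    rw [← h.normalizer_eq, mem_normalizer_iff]
    rw [mem_normalizer_iff] at hx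
    intro y
    constructor
    · intro hy
      have := (hx ⟨y, hQ hy⟩).1 (by rw [mem_subgroupOf]; exact hy)
      rw [mem_subgroupOf] at this
      exact this
    · intro hy
      have hyQ : y ∈ (Q : Subgroup K) := by
        have h3 : (x : K)⁻¹ * ((x : K) * y * (x : K)⁻¹) * x ∈ (Q : Subgroup K) :=
          mul_mem (mul_mem (inv_mem x.2) (hQ hy)) x.2
        have h4 : (x : K)⁻¹ * ((x : K) * y * (x : K)⁻¹) * x = y := by group
        rwa [h4] at h3
      have := (hx ⟨y, hyQ⟩).2 (by rw [mem_subgroupOf]; exact hy)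
      rw [mem_subgroupOf] at this
      exact this
  obtain ⟨k, hk⟩ := IsPGroup.iff_orderOf.1 Q.isPGroup' x
  apply hxU
  rw [mem_subgroupOf]
  refine h.mem_of_pow hxB (n := k) ?_
  rw [← hk, ← SubmonoidClass.coe_pow, pow_orderOf_eq_one]
  rfl

theorem card_normalizer [hl : Fact l.Prime] (h : Split P l U) (Q : Sylow l K) :
    Nat.card ↥(normalizer ((Q : Subgroup K) : Set K)) = Nat.card P.B := by
  obtain ⟨R, hR⟩ := h.isP.exists_le_sylow
  have h1 := sylow_eq h R hR
  obtain ⟨g, hg⟩ := MulAction.exists_smul_eq K Q R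
  have h2 : (R : Subgroup K) = (Q : Subgroup K).map (MulAut.conj g).toMonoidHom := by
    rw [← hg]
    rfl
  rw [← h.normalizer_eq, ← h1, h2, ← map_equiv_normalizer_eq]
  exact (Subgroup.card_map_of_injective (MulAut.conj g).injective).symm

/-- a Sylow subgroup of the torus has a normalizer of even order -/
theorem evenLoc_of_split {p : ℕ} (hp : p.Prime) (hpl : p ≠ l) (hl : l.Prime) (h : Split P l U)
    (hne : P.S.Nonempty) (hd : p ∣ Nat.card P.B) : EvenLoc p K := by
  haveI : Fact p.Prime := ⟨hp⟩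
  haveI : Fact l.Prime := ⟨hl⟩
  set H := P.B ⊓ P.N with hH
  -- `p` divides `|H|`
  have hpH : p ∣ Nat.card H := by
    obtain ⟨x, hx⟩ := exists_prime_orderOf_dvd_card' p hd
    obtain ⟨u, hu, hun⟩ := h.cover x x.2
    have hmemB : u⁻¹ * (x : K) ∈ P.B := mul_mem (inv_mem (h.le hu)) x.2
    have hnor : (U.subgroupOf P.B).Normal := by
      constructor
      intro u hu b
      rw [Subgroup.mem_subgroupOf] at hu ⊢
      exact h.norm b b.2 u hu
    have h3 : (QuotientGroup.mk x : P.B ⧸ U.subgroupOf P.B) = QuotientGroup.mk (⟨u⁻¹ * x, hmemB⟩ : P.B) := by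
      rw [QuotientGroup.eq, Subgroup.mem_subgroupOf]
      change (x : K)⁻¹ * (u⁻¹ * x) ∈ U
      have h4 := h.norm (x : K)⁻¹ (inv_mem x.2) _ (inv_mem hu)
      rw [inv_inv] at h4
      rwa [← mul_assoc]
    have hxU : (QuotientGroup.mk x : P.B ⧸ U.subgroupOf P.B) ≠ 1 := by
      rw [Ne, QuotientGroup.eq_one_iff, Subgroup.mem_subgroupOf]
      intro hxU
      obtain ⟨k, hk⟩ := IsPGroup.iff_orderOf.1 h.isP ⟨x, hxU⟩
      rw [Subgroup.orderOf_mk, orderOf_coe, hx] at hk
      have hk1 : k ≠ 0 := by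
        rintro rfl
        rw [pow_zero] at hk
        exact hp.one_lt.ne' hk
      have h5 : l ∣ p := by
        rw [hk]
        exact dvd_pow_self l hk1
      exact hpl ((Nat.prime_dvd_prime_iff_eq hl hp).1 h5).symm
    have h6 : orderOf (QuotientGroup.mk x : P.B ⧸ U.subgroupOf P.B) = p := by
      refine orderOf_eq_prime ?_ hxU
      rw [← QuotientGroup.mk_pow, ← hx, pow_orderOf_eq_one]
      rfl
    rw [h3] at h6
    have h7 : p ∣ orderOf (⟨u⁻¹ * x, hmemB⟩ : P.B) := by
      rw [← h6]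
      exact orderOf_map_dvd (QuotientGroup.mk' (U.subgroupOf P.B)) _
    rw [Subgroup.orderOf_mk] at h7
    have h8 : orderOf (u⁻¹ * (x : K)) ∣ Nat.card H := by
      have := orderOf_dvd_natCard (⟨u⁻¹ * x, Subgroup.mem_inf.2 ⟨hmemB, hun⟩⟩ : H)
      rwa [Subgroup.orderOf_mk] at this
    exact h7.trans h8
  -- `H` is normal in `N`
  have hHN : H ≤ P.N := inf_le_right
  haveI hnor : (H.subgroupOf P.N).Normal := Cfsg.Agent.Tits.OfBN.normal_subgroupOf P
  obtain ⟨s, hs⟩ := hne
  have hsN : s ∈ P.N := P.subset hs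
  let R : Sylow p (H.subgroupOf P.N) := default
  have hfr := R.normalizer_sup_eq_top
  set R' : Subgroup P.N := (R : Subgroup (H.subgroupOf P.N)).map (H.subgroupOf P.N).subtype with hR'
  obtain ⟨r, hr, t, ht, hrt⟩ := Subgroup.mem_sup_of_normal_right.1 (show (⟨s, hsN⟩ : P.N) ∈
    normalizer (R' : Set P.N) ⊔ H.subgroupOf P.N by rw [hfr]; trivial)
  have hr1 : (r : K) = s * (t : K)⁻¹ := by
    have : (r : K) * t = s := congrArg Subtype.val hrt
    rw [← this]; group
  rw [mem_subgroupOf] at ht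
  have hrH : (r : K) ∉ P.B := by
    intro hrB
    have : s ∈ P.B := by
      have h2 : s = r * t := (congrArg Subtype.val hrt).symm
      rw [h2]
      exact mul_mem hrB (Subgroup.mem_inf.1 ht).1
    exact Cfsg.Agent.Schreier.BNSch.not_mem_B P hs this
  have hr2 : (r : K) ^ 2 ∈ P.B := by
    rw [sq, hr1]
    have h2 : s * (t : K)⁻¹ * (s * (t : K)⁻¹) = (s * (t : K)⁻¹ * s⁻¹) * (s * s) * (t : K)⁻¹ := by group
    rw [h2]
    exact mul_mem (mul_mem (P.conj_mem s hsN _ (inv_mem ht)) (P.sq_mem s hs)) (inv_mem (Subgroup.mem_inf.1 ht).1)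
  have hreven : 2 ∣ orderOf (r : K) := by
    by_contra hodd
    rw [← even_iff_two_dvd, Nat.not_even_iff_odd] at hodd
    obtain ⟨m, hm⟩ := hodd
    apply hrH
    have h2 : (r : K) = ((r : K) ^ 2) ^ (m + 1) := by
      rw [← pow_mul, show 2 * (m + 1) = 2 * m + 1 + 1 by ring, pow_succ, ← hm, pow_orderOf_eq_one, one_mul]
    rw [h2]
    exact pow_mem hr2 _
  -- the `p`-local subgroup
  refine ⟨R'.map P.N.subtype, (R.isPGroup'.map _).map _, ?_, ?_⟩
  · intro hb
    have h1 := (Subgroup.map_eq_bot_iff_of_injective _ P.N.subtype_injective).1 hb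
    have h2 := (Subgroup.map_eq_bot_iff_of_injective _ (H.subgroupOf P.N).subtype_injective).1 h1
    have h3 : p ∣ Nat.card R := R.dvd_card_of_dvd_card (by
      rwa [Nat.card_congr (subgroupOfEquivOfLe hHN).toEquiv])
    rw [h2, Subgroup.card_bot] at h3
    exact hp.one_lt.ne' (Nat.dvd_one.1 h3)
  · rw [even_iff_two_dvd]
    have h1 : (r : K) ∈ normalizer ((R'.map P.N.subtype : Subgroup K) : Set K) :=
      Subgroup.le_normalizer_map P.N.subtype ⟨r, hr, rfl⟩
    rw [← Subgroup.orderOf_mk (r : K) h1] at hreven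
    exact hreven.trans (orderOf_dvd_natCard _)

end split

/-- outer automorphisms fixing a Sylow subgroup -/
theorem outFix_of_split {p l : ℕ} (hp : p.Prime) (hl : l.Prime) (h : HasSplit l K) (Q : Sylow l K)
    (hcop : ¬ p ∣ Nat.card ↥(normalizer ((Q : Subgroup K) : Set K))) : OutFix p K := by
  haveI : Fact p.Prime := ⟨hp⟩
  haveI : Fact l.Prime := ⟨hl⟩
  intro x hx hx'
  set I := (MulAut.conj : K →* MulAut K).range with hI
  haveI hn : I.Normal := by
    constructor
    rintro _ ⟨g, rfl⟩ y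
    refine ⟨y g, ?_⟩
    ext k
    simp [MulAut.conj_apply, MulAut.mul_apply]
  -- correct `x` so that it fixes `Q`
  obtain ⟨k, hk⟩ := MulAction.exists_smul_eq K (x • Q) Q
  set y : MulAut K := MulAut.conj k * x with hy
  have hyQ : y • Q = Q := by
    rw [hy, mul_smul]
    exact hk
  have hyQ' : ∀ {z : MulAut K}, z • Q = Q → ∀ u ∈ Q, z u ∈ Q := by
    intro z hz u hu
    have h1 : z u ∈ z • Q := ⟨u, hu, rfl⟩
    rwa [hz] at h1
  have hyx : (QuotientGroup.mk y : MulAut K ⧸ I) = QuotientGroup.mk x := by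
    have h1 : (QuotientGroup.mk (MulAut.conj k) : MulAut K ⧸ I) = 1 :=
      (QuotientGroup.eq_one_iff (N := I) (MulAut.conj k)).2 ⟨k, rfl⟩
    rw [hy, QuotientGroup.mk_mul, h1, one_mul]
  have hyp : y ^ p ∈ I := by
    rw [← QuotientGroup.eq_one_iff, QuotientGroup.mk_pow, hyx, ← QuotientGroup.mk_pow, QuotientGroup.eq_one_iff]
    exact hx
  obtain ⟨m, hm⟩ := hyp
  have hmQ : m ∈ normalizer ((Q : Subgroup K) : Set K) := by
    have h1 : (y ^ p) • Q = Q := by
      have : ∀ n : ℕ, (y ^ n) • Q = Q := by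
        intro n
        induction n with
        | zero => rw [pow_zero, one_smul]
        | succ n ih => rw [pow_succ, mul_smul, hyQ, ih]
      exact this p
    rw [← hm] at h1
    have h2 : m • Q = Q := h1
    exact Sylow.smul_eq_iff_mem_normalizer.1 h2
  set M := Nat.card ↥(normalizer ((Q : Subgroup K) : Set K)) with hM
  have hmM : m ^ M = 1 := by
    have := pow_card_eq_one' (x := (⟨m, hmQ⟩ : ↥(normalizer ((Q : Subgroup K) : Set K))))
    exact congrArg Subtype.val this
  obtain ⟨c, hc1, hc2⟩ := Nat.chineseRemainder ((Nat.Prime.coprime_iff_not_dvd hp).2 hcop) 1 0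
  have hMc : M ∣ c := (Nat.modEq_zero_iff_dvd).1 hc2
  have hycp : (y ^ c) ^ p = 1 := by
    obtain ⟨d, hd⟩ := hMc
    rw [← pow_mul, mul_comm, pow_mul, ← hm, hd, ← map_pow, pow_mul, hmM, one_pow, map_one]
  have hyc : (QuotientGroup.mk (y ^ c) : MulAut K ⧸ I) = QuotientGroup.mk x := by
    rw [QuotientGroup.mk_pow, hyx]
    have h1 : (QuotientGroup.mk x : MulAut K ⧸ I) ^ p = 1 := by
      rw [← QuotientGroup.mk_pow, QuotientGroup.eq_one_iff]
      exact hx
    have h2 : orderOf (QuotientGroup.mk x : MulAut K ⧸ I) ∣ p := orderOf_dvd_of_pow_eq_one h1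
    have h3 : (QuotientGroup.mk x : MulAut K ⧸ I) ^ c = (QuotientGroup.mk x : MulAut K ⧸ I) ^ 1 := by
      rw [pow_eq_pow_iff_modEq]
      exact Nat.ModEq.of_dvd h2 hc1
    rw [h3, pow_one]
  have h5 : y ^ c * x⁻¹ ∈ I := by
    rw [← QuotientGroup.eq_one_iff, QuotientGroup.mk_mul, QuotientGroup.mk_inv, hyc, mul_inv_cancel]
  obtain ⟨k', hk'⟩ := h5
  have hk'' : MulAut.conj k' * x = y ^ c := by rw [hk']; group
  have hycQ : (y ^ c) • Q = Q := by
    have : ∀ n : ℕ, (y ^ n) • Q = Q := by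
      intro n
      induction n with
      | zero => rw [pow_zero, one_smul]
      | succ n ih => rw [pow_succ, mul_smul, hyQ, ih]
    exact this c
  obtain ⟨t, ht, hyt⟩ := Cfsg.Agent.H388.EvenFix.exists_involution_of_sylow h (y ^ c) hycp Q (hyQ' hycQ) hcop
  exact ⟨k', t, ht, by rw [hk'', hycp], by rw [hk'', hyt]⟩

/-- **The row of a group of Lie type in characteristic different from `p`.** -/
theorem row_of_split {p l : ℕ} (hp : p.Prime) (hl : l.Prime) (hpl : p ≠ l) (h : HasSplit l K)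
    (hrow : TwoP p K ∨ EvenLoc p K ∨ Ab p K) : Row p K := by
  haveI : Fact l.Prime := ⟨hl⟩
  rcases hrow with h1 | h1 | h1
  · exact Or.inl h1
  · exact Or.inr (Or.inl h1)
  · obtain ⟨P, U, hne, hs⟩ := h
    let Q : Sylow l K := default
    by_cases hd : p ∣ Nat.card P.B
    · exact Or.inr (Or.inl (evenLoc_of_split hp hpl hl hs hne hd))
    · refine Or.inr (Or.inr ⟨h1, outFix_of_split hp hl ⟨P, U, hne, hs⟩ Q ?_⟩)
      rwa [card_normalizer hs Q]

end Cfsg.Agent.H494.Cross
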