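import Cfsg.Agent.H494.SLHom
import Cfsg.Agent.H494.ClassHom
import Cfsg.Agent.ClassicalGeometry.PSL2Basic
import Cfsg.Agent.CpAut.Psl
import Cfsg.Agent.OddHalf.LongSL.Mat
import Cfsg.Agent.OddHalf.LongSL.Exc
import Cfsg.Agent.OddHalf.LongSL.Tw
import Cfsg.Agent.OddHalf.LongSL.Orth

/-!
# Defining characteristic

* `twoP_of_hasLong` : an involution in the centre of a subgroup `SL_2(q)` gives elements of order `2p` for
  `p ∣ q (q ^ 2 - 1)`;
* `psl_two` : the row of `PSL_2(q)`, `q` a power of `p`.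
-/

set_option autoImplicit false
set_option linter.style.haveILetI false

namespace Cfsg.Agent.H494.DefChar

open Subgroup Cfsg Cfsg.Agent.H494.Good Cfsg.Agent.H494.SLHom Matrix
open Cfsg.Agent.OddHalf.LongSL

universe u

/-- elements of order `2p` in `SL_2(F)`, `F` of odd order -/
theorem twoP_SL2 {F : Type*} [Field F] [Fintype F] (hF : Odd (Fintype.card F)) {p : ℕ} (hp : p.Prime)
    (hp2 : p ≠ 2) (hd : p ∣ Fintype.card F * (Fintype.card F ^ 2 - 1)) : TwoP p (SpecialLinearGroup (Fin 2) F) := by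
  haveI : Fact p.Prime := ⟨hp⟩
  haveI : Fact (Nat.Prime 2) := ⟨Nat.prime_two⟩
  have h2 : (2 : F) ≠ 0 := two_ne_of_odd hF
  rw [← ClassicalGeometry.PSL2Basic.card_SL2] at hd
  obtain ⟨y, hy⟩ := exists_prime_orderOf_dvd_card' p hd
  refine TwoP.of_commute hp hp2 (a := -1) (b := y) ?_ hy ?_
  · refine orderOf_eq_prime ?_ (neg_one_ne h2)
    rw [sq, neg_mul_neg, one_mul]
  · change -1 * y = y * -1
    rw [neg_one_mul, mul_neg_one]

theorem twoP_of_hasLong {q : ℕ} {X : Type*} [Group X] (h : HasLong q X) {p : ℕ} (hp : p.Prime)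
    (hp2 : p ≠ 2) (hd : p ∣ q * (q ^ 2 - 1)) : TwoP p X := by
  obtain ⟨j, J, -, -, -, -, F, _, _, hF, ho, ⟨e⟩⟩ := h
  subst hF
  exact ((twoP_SL2 ho hp hp2 hd).congr e.symm).of_injective J.subtype J.subtype_injective

/-- in the defining characteristic -/
theorem twoP_of_hasLong_char {p : ℕ} (hp : p.Prime) (hp2 : p ≠ 2) {X : Type*} [Group X]
    (h : ∃ (F : Type) (_ : Field F) (_ : Fintype F) (_ : CharP F p), HasLong (Fintype.card F) X) : TwoP p X := by
  obtain ⟨F, _, _, _, h⟩ := h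
  refine twoP_of_hasLong h hp hp2 (Dvd.dvd.mul_right ?_ _)
  obtain ⟨k, -, hk⟩ := FiniteField.card F p
  rw [hk]
  exact dvd_pow_self p k.ne_zero

section psl2

open Cfsg.Agent.ClassicalGeometry.AutPSL.Root
open Cfsg.Agent.ClassicalGeometry.AutPSL.Auto
open Cfsg.Agent.ClassicalGeometry.AutPSL.Main
open Cfsg.Agent.CpAut.Psl

variable {F : Type*} [Field F] [Fintype F] {p : ℕ} [hp : Fact p.Prime] [CharP F p]

omit [Fintype F] in
theorem lift_mem_range {A : GL (Fin 2) F} {c : Fˣ} (h : (A : Matrix (Fin 2) (Fin 2) F).det = (c : F) ^ 2) :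
    lift (cj A) ∈ (MulAut.conj : Matrix.ProjectiveSpecialLinearGroup (Fin 2) F →* _).range := by
  obtain ⟨B, hB⟩ : ∃ B : GL (Fin 2) F, B = (scg c)⁻¹ * A := ⟨_, rfl⟩
  have hdet : (B : Matrix (Fin 2) (Fin 2) F).det = 1 := by
    have h1 : scg c * B = A := by rw [hB, mul_inv_cancel_left]
    have h2 : ((scg c : GL (Fin 2) F) : Matrix (Fin 2) (Fin 2) F).det * (B : Matrix (Fin 2) (Fin 2) F).det =
        (c : F) ^ 2 := by
      rw [← det_mul, ← Units.val_mul, h1, h]
    have h3 : ((scg c : GL (Fin 2) F) : Matrix (Fin 2) (Fin 2) F).det = (c : F) ^ 2 := by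
      change (scalar (Fin 2) (c : F)).det = _
      rw [scalar_apply, det_diagonal, Finset.prod_const, Finset.card_univ, Fintype.card_fin]
    rw [h3] at h2
    exact mul_left_cancel₀ (pow_ne_zero 2 c.ne_zero) (by rw [h2, mul_one])
  obtain ⟨b, hb⟩ : ∃ b : Matrix.SpecialLinearGroup (Fin 2) F, (b : Matrix (Fin 2) (Fin 2) F) = B :=
    ⟨⟨(B : Matrix (Fin 2) (Fin 2) F), hdet⟩, rfl⟩
  refine ⟨pr b, ?_⟩
  have h3 : cj A = cj B := by rw [hB, map_mul, map_inv, cj_scg, inv_one, one_mul]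
  apply MulEquiv.ext
  intro x
  obtain ⟨x, rfl⟩ := pr_surjective x
  have h6 : cj B x = b * x * b⁻¹ := by
    apply Subtype.ext
    rw [coe_cj, Matrix.SpecialLinearGroup.coe_mul, Matrix.SpecialLinearGroup.coe_mul, hb]
    congr 1
    have h4 : ((B⁻¹ : GL (Fin 2) F) : Matrix (Fin 2) (Fin 2) F) * (B : Matrix (Fin 2) (Fin 2) F) = 1 := by
      rw [← Units.val_mul, inv_mul_cancel, Units.val_one]
    have h5 : (B : Matrix (Fin 2) (Fin 2) F) *
        ((b⁻¹ : Matrix.SpecialLinearGroup (Fin 2) F) : Matrix (Fin 2) (Fin 2) F) = 1 := by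
      rw [← hb, ← Matrix.SpecialLinearGroup.coe_mul, mul_inv_cancel, Matrix.SpecialLinearGroup.coe_one]
    exact left_inv_eq_right_inv h4 h5
  rw [h3, lift_pr, h6, map_mul, map_mul, map_inv]
  rfl

theorem exists_sq (hp2 : p ≠ 2) (σ : F ≃+* F) {δ : F} (hδ : δ ≠ 0) : ∃ c : Fˣ, δ * σ δ = (c : F) ^ 2 := by
  have hF : ringChar F ≠ 2 := by rwa [ringChar.eq F p]
  have hσ : σ δ ≠ 0 := fun h => hδ (σ.injective (by rw [h, map_zero]))
  have hne : δ * σ δ ≠ 0 := mul_ne_zero hδ hσ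
  have hsq : IsSquare (δ * σ δ) := by
    rw [FiniteField.isSquare_iff hF hne, mul_pow, ← map_pow]
    rcases FiniteField.pow_dichotomy hF hδ with h | h <;> rw [h] <;> simp
  obtain ⟨r, hr⟩ := hsq
  have hr0 : r ≠ 0 := by
    rintro rfl
    rw [mul_zero] at hr
    exact hne hr
  exact ⟨Units.mk0 r hr0, by rw [hr, Units.val_mk0, sq]⟩

/-- the involution `[[0, 1], [-1, 0]]` -/
def w0 (F : Type*) [Field F] : SpecialLinearGroup (Fin 2) F :=
  ⟨!![0, 1; -1, 0], by rw [det_fin_two_of]; ring⟩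

omit [Fintype F] in
theorem orderOf_w0 : orderOf (pr (w0 F)) = 2 := by
  haveI : Fact (Nat.Prime 2) := ⟨Nat.prime_two⟩
  refine orderOf_eq_prime ?_ ?_
  · rw [← map_pow, pr_eq_one_iff, mem_center_iff]
    intro g
    have h1 : w0 F ^ 2 = -1 := by
      refine SLHom.sl_ext ?_
      rw [Matrix.SpecialLinearGroup.coe_pow, sq]
      change !![(0 : F), 1; -1, 0] * !![(0 : F), 1; -1, 0] = -1
      ext i j
      fin_cases i <;> fin_cases j <;> simp
    rw [h1, mul_neg_one, neg_one_mul]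
  · rw [Ne, pr_eq_one_iff, Matrix.SpecialLinearGroup.mem_center_iff]
    rintro ⟨r, -, hr⟩
    have h1 := congrFun (congrFun hr 0) 1
    change (scalar (Fin 2) r) 0 1 = (1 : F) at h1
    rw [scalar_apply, diagonal_apply_ne _ (by decide)] at h1
    exact zero_ne_one h1

/-- the outer automorphisms of `PSL_2(q)` of order `p` -/
theorem outFix_psl2 (hp2 : p ≠ 2) : OutFix p (Matrix.ProjectiveSpecialLinearGroup (Fin 2) F) := by
  classical
  intro x hx hx'
  set I := (MulAut.conj : Matrix.ProjectiveSpecialLinearGroup (Fin 2) F →* _).range with hI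
  haveI hn : I.Normal := by
    constructor
    rintro _ ⟨g, rfl⟩ y
    refine ⟨y g, ?_⟩
    ext k
    simp [MulAut.conj_apply, MulAut.mul_apply]
  obtain ⟨A, σ, hA⟩ := surj_two p x
  have hδ : (A : Matrix (Fin 2) (Fin 2) F).det ≠ 0 := by
    have h1 : (A : Matrix (Fin 2) (Fin 2) F).det = ((GeneralLinearGroup.det A : Fˣ) : F) := rfl
    rw [h1]
    exact Units.ne_zero _
  -- the square of `x`
  have hx2 : (QuotientGroup.mk x : MulAut _ ⧸ I) ^ 2 = QuotientGroup.mk (lift (fld (σ ^ 2))) := by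
    obtain ⟨c, hc⟩ := exists_sq (p := p) hp2 σ hδ
    have h1 : x ^ 2 = lift (cj (A * fgl σ A)) * lift (fld (σ ^ 2)) := by
      rw [hA, sq, ← map_mul, cjfld_mul, map_mul, sq]
    have h2 : lift (cj (A * fgl σ A)) ∈ I := by
      refine lift_mem_range (c := c) ?_
      have h3 : (fgl σ A : Matrix (Fin 2) (Fin 2) F).det = σ (A : Matrix (Fin 2) (Fin 2) F).det := by
        rw [coe_fgl]
        exact (RingHom.map_det (σ : F →+* F) _).symm
      rw [Units.val_mul, det_mul, h3, hc]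
    rw [← QuotientGroup.mk_pow, h1, QuotientGroup.mk_mul, (QuotientGroup.eq_one_iff (N := I) _).2 h2, one_mul]
  have hxp : (QuotientGroup.mk x : MulAut (Matrix.ProjectiveSpecialLinearGroup (Fin 2) F) ⧸ I) ^ p = 1 := by
    rw [← QuotientGroup.mk_pow, QuotientGroup.eq_one_iff]
    exact hx
  obtain ⟨m, hm⟩ := hp.1.odd_of_ne_two hp2
  set τ := σ ^ (2 * (m + 1)) with hτ
  set y : MulAut (Matrix.ProjectiveSpecialLinearGroup (Fin 2) F) := lift (fld τ) with hy
  have hxy : (QuotientGroup.mk y : MulAut _ ⧸ I) = QuotientGroup.mk x := by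
    have h1 : (QuotientGroup.mk x : MulAut _ ⧸ I) = ((QuotientGroup.mk x : MulAut _ ⧸ I) ^ 2) ^ (m + 1) := by
      rw [← pow_mul, show 2 * (m + 1) = p + 1 by omega, pow_succ, hxp, one_mul]
    rw [h1, hx2, ← QuotientGroup.mk_pow, hy, hτ, pow_mul, ← map_pow, ← map_pow]
  have hyp : y ^ p = 1 := by
    have h1 : y ^ p ∈ I := by
      rw [← QuotientGroup.eq_one_iff, QuotientGroup.mk_pow, hxy, hxp]
    obtain ⟨k, hk⟩ := h1
    obtain ⟨g, rfl⟩ := pr_surjective k
    have h2 : MulAut.conj (pr g) = lift (cj (SpecialLinearGroup.toGL g) * fld (1 : F ≃+* F)) := by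
      apply MulEquiv.ext
      intro z
      obtain ⟨z, rfl⟩ := pr_surjective z
      rw [map_one, mul_one, lift_pr]
      have h3 : cj (SpecialLinearGroup.toGL g) z = g * z * g⁻¹ := rfl
      rw [h3, map_mul, map_mul, map_inv]
      rfl
    have h4 : lift (cj (SpecialLinearGroup.toGL g) * fld (1 : F ≃+* F)) =
        (lift (fld (τ ^ p)) : MulAut (Matrix.ProjectiveSpecialLinearGroup (Fin 2) F)) := by
      rw [← h2, hk, hy, ← map_pow, ← map_pow]
    have h5 := (injective_aux h4).2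
    rw [hy, ← map_pow, ← map_pow, ← h5, map_one, map_one]
  have h5 : y * x⁻¹ ∈ I := by
    rw [← QuotientGroup.eq_one_iff, QuotientGroup.mk_mul, QuotientGroup.mk_inv, hxy, mul_inv_cancel]
  obtain ⟨k, hk⟩ := h5
  have hk' : MulAut.conj k * x = y := by rw [hk]; group
  refine ⟨k, pr (w0 F), orderOf_w0, by rw [hk', hyp], ?_⟩
  rw [hk', hy, lift_pr]
  congr 1
  refine SLHom.sl_ext ?_
  ext i j
  rw [coe_fld_apply]
  change τ (!![(0 : F), 1; -1, 0] i j) = !![(0 : F), 1; -1, 0] i j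
  fin_cases i <;> fin_cases j <;> simp

/-- the unipotent elements -/
def uni (F : Type*) [Field F] : Multiplicative F →* SpecialLinearGroup (Fin 2) F where
  toFun t := ⟨!![1, t.toAdd; 0, 1], by rw [det_fin_two_of]; ring⟩
  map_one' := SLHom.sl_ext (by
    change !![(1 : F), 0; 0, 1] = 1
    exact one_fin_two.symm)
  map_mul' s t := SLHom.sl_ext (by
    change !![(1 : F), s.toAdd + t.toAdd; 0, 1] = !![(1 : F), s.toAdd; 0, 1] * !![(1 : F), t.toAdd; 0, 1]
    ext i j
    fin_cases i <;> fin_cases j <;> simp [Matrix.mul_apply, Fin.sum_univ_two, add_comm])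

omit [Fintype F] in
theorem uni_injective : Function.Injective (uni F) := by
  intro s t h
  have h1 := congrArg (fun g : SpecialLinearGroup (Fin 2) F => (g : Matrix (Fin 2) (Fin 2) F) 0 1) h
  exact h1

theorem ab_sl2 : Ab p (SpecialLinearGroup (Fin 2) F) := by
  classical
  haveI : Finite (SpecialLinearGroup (Fin 2) F) := inferInstance
  obtain ⟨k, -, hk⟩ := FiniteField.card F p
  have hcard : Nat.card (uni F).range = p ^ (k : ℕ) := by
    rw [Nat.card_congr (MonoidHom.ofInjective (uni_injective (F := F))).toEquiv.symm, ← hk,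
      ← Nat.card_eq_fintype_card]
    exact Nat.card_congr Multiplicative.toAdd
  have hfac : (Nat.card (SpecialLinearGroup (Fin 2) F)).factorization p = k := by
    rw [ClassicalGeometry.PSL2Basic.card_SL2, hk]
    have h1 : p ^ (k : ℕ) ≠ 0 := pow_ne_zero _ hp.1.ne_zero
    have hk0 := k.ne_zero
    have h2 : 1 < (p ^ (k : ℕ)) ^ 2 := by
      rw [← pow_mul]
      exact Nat.one_lt_pow (by omega) hp.1.one_lt
    have h3 : (p ^ (k : ℕ)) ^ 2 - 1 ≠ 0 := by omega
    rw [Nat.factorization_mul h1 h3, Finsupp.add_apply, hp.1.factorization_pow, Finsupp.single_eq_same]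
    have h4 : ¬ p ∣ (p ^ (k : ℕ)) ^ 2 - 1 := by
      intro h
      have h5 : p ∣ (p ^ (k : ℕ)) ^ 2 := by
        rw [← pow_mul]
        exact dvd_pow_self p (by omega)
      have h6 := (Nat.dvd_sub_iff_right h2.le h5).1 h
      exact hp.1.one_lt.ne' (Nat.dvd_one.1 h6)
    rw [Nat.factorization_eq_zero_of_not_dvd h4, add_zero]
  let P : Sylow p (SpecialLinearGroup (Fin 2) F) := Sylow.ofCard (uni F).range (by rw [hcard, hfac])
  refine Ab.of_sylow P ?_
  refine ⟨⟨?_⟩⟩
  rintro ⟨_, s, rfl⟩ ⟨_, t, rfl⟩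
  apply Subtype.ext
  change uni F s * uni F t = uni F t * uni F s
  rw [← map_mul, ← map_mul, mul_comm]

/-- **the row of `PSL_2(q)` in the defining characteristic** -/
theorem psl_two (hp2 : p ≠ 2) {K : Type u} [Group K] [Finite K] (e : K ≃* ProjectiveSpecialLinearGroup (Fin 2) F) :
    Row p K := by
  haveI : Finite (SpecialLinearGroup (Fin 2) F) := inferInstance
  haveI : Finite (ProjectiveSpecialLinearGroup (Fin 2) F) := Finite.of_equiv _ e.toEquiv
  refine Row.congr e.symm (Or.inr (Or.inr ⟨?_, outFix_psl2 hp2⟩))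
  intro P hP
  by_contra hna
  obtain ⟨Q, hQ, hQna⟩ := ClassHom.exists_lift _ P hP hna
  exact hQna (ab_sl2 Q hQ)

end psl2

end Cfsg.Agent.H494.DefChar
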