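import Cfsg.Agent.H494.SLHom
import Cfsg.Agent.ETable.Exc
import Cfsg.Agent.LieClassical.SLGen
import Cfsg.Agent.TwoFusion.SLTwoFacts
import Cfsg.Agent.ChevalleyStructure.TwistedE6Sigma

/-!
# `SL₂(q²)` in `²E₆(q)` (helper494)

`hom` : for an orbit `{r, r̄}` of orthogonal fundamental roots, `A ↦ φ_r(A) φ_{r̄}(A^{(q)})` is a homomorphism
`SL₂(q²) → ²E₆(q)` with central kernel; `evenLoc` : a nontrivial `p`-subgroup with normalizer of even order if
`p` divides `q⁴ - 1`.
-/

set_option autoImplicit false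
set_option linter.style.haveILetI false
set_option linter.unusedSectionVars false

namespace Cfsg.Agent.H494.TwE6Five

open Subgroup Cfsg Cfsg.Lie Matrix
open scoped commutatorElement
open Cfsg.Agent.ChevalleyStructure Cfsg.Agent.ChevalleyStructure.Elts
open Cfsg.Agent.ChevalleyStructure.SL2Rep Cfsg.Agent.ChevalleyStructure.SL2Hom
open Cfsg.Agent.ETable.Exc
open Cfsg.Agent.H494.Good Cfsg.Agent.H494.SLHom

universe u

variable {K : Type u} [Field K] [Fintype K]

/-- normal subgroups of `SL(2,K)` -/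
theorem sl_normal (hF : 3 < Fintype.card K) (N : Subgroup (SpecialLinearGroup (Fin 2) K))
    (hN : N.Normal) : N = ⊤ ∨ N ≤ center (SpecialLinearGroup (Fin 2) K) := by
  have hs := Cfsg.Agent.TwoFusion.SLTwoFacts.isSimpleGroup_psl hF
  have hp := Cfsg.Agent.TwoFusion.SLTwoFacts.commutator_eq_top hF
  obtain ⟨π, hπ⟩ : ∃ π : SpecialLinearGroup (Fin 2) K →* ProjectiveSpecialLinearGroup (Fin 2) K,
      π = QuotientGroup.mk' _ := ⟨_, rfl⟩
  have hsurj : Function.Surjective π := by rw [hπ]; exact QuotientGroup.mk'_surjective _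
  have hker : π.ker = center (SpecialLinearGroup (Fin 2) K) := by rw [hπ]; exact QuotientGroup.ker_mk' _
  have hNn : (N.map π).Normal := hN.map π hsurj
  rcases hNn.eq_bot_or_eq_top with h | h
  · right
    rw [← hker]
    exact (Subgroup.map_eq_bot_iff N).1 h
  · left
    have h1 : N ⊔ center (SpecialLinearGroup (Fin 2) K) = ⊤ := by
      rw [← hker, ← Subgroup.comap_map_eq, h, Subgroup.comap_top]
    have h2 : ∀ x : SpecialLinearGroup (Fin 2) K, ∃ n ∈ N, ∃ c ∈ center (SpecialLinearGroup (Fin 2) K), n * c = x := by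
      intro x
      have hx : x ∈ N ⊔ center (SpecialLinearGroup (Fin 2) K) := by rw [h1]; exact mem_top x
      rwa [mem_sup_of_normal_left] at hx
    have hcomm : ∀ a b : SpecialLinearGroup (Fin 2) K ⧸ N, a * b = b * a := by
      intro a b
      induction a using QuotientGroup.induction_on with
      | H a =>
        induction b using QuotientGroup.induction_on with
        | H b =>
          obtain ⟨n, hn, c, hc, rfl⟩ := h2 a
          have e : ((n * c : SpecialLinearGroup (Fin 2) K) : SpecialLinearGroup (Fin 2) K ⧸ N) = (c : _ ⧸ N) := by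
            rw [QuotientGroup.mk_mul, (QuotientGroup.eq_one_iff n).2 hn, one_mul]
          rw [e, ← QuotientGroup.mk_mul, ← QuotientGroup.mk_mul, ← (mem_center_iff.1 hc) b]
    rw [eq_top_iff, ← hp, _root_.commutator_def, Subgroup.commutator_le]
    intro a _ b _
    rw [← QuotientGroup.eq_one_iff]
    change ((⁅a, b⁆ : SpecialLinearGroup (Fin 2) K) : SpecialLinearGroup (Fin 2) K ⧸ N) = 1
    rw [commutatorElement_def, QuotientGroup.mk_mul, QuotientGroup.mk_mul, QuotientGroup.mk_mul,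
      QuotientGroup.mk_inv, QuotientGroup.mk_inv, hcomm a b]
    group

theorem sl_closure {H : Subgroup (SpecialLinearGroup (Fin 2) K)} (h1 : ∀ t, SL2Hom.up t ∈ H)
    (h2 : ∀ t, SL2Hom.lo t ∈ H) : H = ⊤ := by
  rw [eq_top_iff]
  intro A _
  refine Cfsg.Agent.LieClassical.SLGen.transvection_induction (fun A => A ∈ H) (fun i j hij c => ?_)
    (fun _ _ => mul_mem) A
  fin_cases i <;> fin_cases j
  · exact absurd rfl hij
  · have e : SpecialLinearGroup.transvection hij c = SL2Hom.up c := by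
      refine sl_ext ?_
      change (1 : Matrix (Fin 2) (Fin 2) K) + single 0 1 c = !![1, c; 0, 1]
      ext i j
      fin_cases i <;> fin_cases j <;> simp [single]
    rw [e]
    exact h1 c
  · have e : SpecialLinearGroup.transvection hij c = SL2Hom.lo c := by
      refine sl_ext ?_
      change (1 : Matrix (Fin 2) (Fin 2) K) + single 1 0 c = !![1, 0; c, 1]
      ext i j
      fin_cases i <;> fin_cases j <;> simp [single]
    rw [e]
    exact h2 c
  · exact absurd rfl hij

/-- commuting homomorphisms -/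
theorem commute_of_gens {G : Type*} [Group G] (f g : SpecialLinearGroup (Fin 2) K →* G)
    (h1 : ∀ s t, Commute (f (SL2Hom.up s)) (g (SL2Hom.up t))) (h2 : ∀ s t, Commute (f (SL2Hom.up s)) (g (SL2Hom.lo t)))
    (h3 : ∀ s t, Commute (f (SL2Hom.lo s)) (g (SL2Hom.up t))) (h4 : ∀ s t, Commute (f (SL2Hom.lo s)) (g (SL2Hom.lo t)))
    (A B : SpecialLinearGroup (Fin 2) K) : Commute (f A) (g B) := by
  have key : ∀ y : G, (∀ s, Commute (f (SL2Hom.up s)) y) → (∀ s, Commute (f (SL2Hom.lo s)) y) → ∀ A, Commute (f A) y := by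
    intro y hu hl A
    have h : (centralizer ({y} : Set G)).comap f = ⊤ :=
      sl_closure (fun t => mem_centralizer_singleton_iff.2 (hu t).eq) fun t =>
        mem_centralizer_singleton_iff.2 (hl t).eq
    have h' : A ∈ (centralizer ({y} : Set G)).comap f := by rw [h]; exact mem_top A
    exact mem_centralizer_singleton_iff.1 h'
  have h : (centralizer ({f A} : Set G)).comap g = ⊤ :=
    sl_closure (fun t => mem_centralizer_singleton_iff.2 (key _ (fun s => h1 s t) (fun s => h3 s t) A).symm.eq)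
      fun t => mem_centralizer_singleton_iff.2 (key _ (fun s => h2 s t) (fun s => h4 s t) A).symm.eq
  have h' : B ∈ (centralizer ({f A} : Set G)).comap g := by rw [h]; exact mem_top B
  have h5 : Commute (g B) (f A) := mem_centralizer_singleton_iff.1 h'
  exact h5.symm

theorem so_E6 : SO chevE6 56 36 := by decide +kernel
theorem neg_E6 : chevE6.neg 56 = 15 ∧ chevE6.neg 36 = 35 ∧ 56 < chevE6.nroots ∧ 36 < chevE6.nroots := by
  decide +kernel

/-- the homomorphism of the root `p₁` -/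
noncomputable def f1 (K : Type u) [Field K] : SpecialLinearGroup (Fin 2) K →* GL chevE6.Idx K :=
  phi (SL2All.good_of_mem chevE6 inList_E6 56 neg_E6.2.2.1) K

/-- the homomorphism of the root `p₆`, twisted by the Frobenius -/
noncomputable def f6 {K : Type u} [Field K] (φ : K →+* K) : SpecialLinearGroup (Fin 2) K →* GL chevE6.Idx K :=
  (phi (SL2All.good_of_mem chevE6 inList_E6 36 neg_E6.2.2.2) K).comp (SpecialLinearGroup.map φ)

theorem map_up (φ : K →+* K) (t : K) : SpecialLinearGroup.map φ (SL2Hom.up t) = SL2Hom.up (φ t) := by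
  refine sl_ext ?_
  change φ.mapMatrix !![1, t; 0, 1] = !![1, φ t; 0, 1]
  ext i j
  fin_cases i <;> fin_cases j <;> simp

theorem map_lo (φ : K →+* K) (t : K) : SpecialLinearGroup.map φ (SL2Hom.lo t) = SL2Hom.lo (φ t) := by
  refine sl_ext ?_
  change φ.mapMatrix !![1, 0; t, 1] = !![1, 0; φ t, 1]
  ext i j
  fin_cases i <;> fin_cases j <;> simp

theorem f1_up (t : K) : f1 K (SL2Hom.up t) = xG inList_E6 56 t := phi_up inList_E6 neg_E6.2.2.1 t
theorem f1_lo (t : K) : f1 K (SL2Hom.lo t) = xG inList_E6 15 t := by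
  have h : f1 K (SL2Hom.lo t) = _ := phi_lo inList_E6 neg_E6.2.2.1 t
  rw [h, neg_E6.1]
theorem f6_up (φ : K →+* K) (t : K) : f6 φ (SL2Hom.up t) = xG inList_E6 36 (φ t) := by
  have h := phi_up inList_E6 neg_E6.2.2.2 (φ t)
  rw [← map_up] at h
  exact h
theorem f6_lo (φ : K →+* K) (t : K) : f6 φ (SL2Hom.lo t) = xG inList_E6 35 (φ t) := by
  have h := phi_lo inList_E6 neg_E6.2.2.2 (φ t)
  rw [← map_lo] at h
  have h' : f6 φ (SL2Hom.lo t) = _ := h
  rw [h', neg_E6.2.1]

theorem comm (φ : K →+* K) (A B : SpecialLinearGroup (Fin 2) K) : Commute (f1 K A) (f6 φ B) := by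
  obtain ⟨h1, h2, h3, h4⟩ := so_E6
  rw [neg_E6.2.1] at h2 h4
  rw [neg_E6.1] at h3 h4
  refine commute_of_gens _ _ ?_ ?_ ?_ ?_ A B <;> intro s t
  · rw [f1_up, f6_up]
    exact comm_of_so inList_E6 h1 _ _
  · rw [f1_up, f6_lo]
    exact comm_of_so inList_E6 h2 _ _
  · rw [f1_lo, f6_up]
    exact comm_of_so inList_E6 h3 _ _
  · rw [f1_lo, f6_lo]
    exact comm_of_so inList_E6 h4 _ _

/-- `A ↦ φ_r(A) φ_{r̄}(A^{(q)})` -/
noncomputable def psi {K : Type u} [Field K] [Fintype K] (φ : K →+* K) : SpecialLinearGroup (Fin 2) K →* GL chevE6.Idx K :=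
  ((f1 K).noncommCoprod (f6 φ) (comm φ)).comp (MonoidHom.prod (MonoidHom.id _) (MonoidHom.id _))

theorem psi_apply (φ : K →+* K) (A : SpecialLinearGroup (Fin 2) K) : psi φ A = f1 K A * f6 φ A := rfl

theorem psi_mem {q : ℕ} {φ : K →+* K} (hφ : ∀ x, φ x = x ^ q) (A : SpecialLinearGroup (Fin 2) K) :
    psi φ A ∈ twistedE6 K q := by
  have h : (twistedE6 K q).comap (psi φ) = ⊤ := by
    refine sl_closure (fun t => ?_) (fun t => ?_)
    · refine subset_closure ⟨[(e6p1, t), (e6p6, t ^ q)], ?_, ?_⟩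
      · exact Or.inr ⟨t, (e6p1, e6p6), by simp, rfl⟩
      · rw [psi_apply, f1_up, f6_up, hφ, Units.val_mul]
        simp [ChevalleyDatum.wordMat, e6p1, e6p6]
    · refine subset_closure ⟨[(e6m1, t), (e6m6, t ^ q)], ?_, ?_⟩
      · exact Or.inr ⟨t, (e6m1, e6m6), by simp, rfl⟩
      · rw [psi_apply, f1_lo, f6_lo, hφ, Units.val_mul]
        simp [ChevalleyDatum.wordMat, e6m1, e6m6]
  have h' : A ∈ (twistedE6 K q).comap (psi φ) := by rw [h]; exact mem_top A
  exact h'

theorem psi_ker_ne (φ : K →+* K) : (psi φ).ker ≠ ⊤ := by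
  intro h
  have h1 : ∀ A, f1 K A = (f6 φ A)⁻¹ := by
    intro A
    have : A ∈ (psi φ).ker := by rw [h]; exact mem_top A
    rw [MonoidHom.mem_ker, psi_apply] at this
    exact eq_inv_of_mul_eq_one_left this
  have h2 : ∀ A B, f1 K A * f1 K B = f1 K B * f1 K A := by
    intro A B
    have h3 : Commute (f1 K B) (f6 φ A) := comm φ B A
    rw [h1 A]
    exact h3.inv_right.eq.symm
  have h3 := h2 (SL2Hom.up 1) (SL2Hom.lo 1)
  rw [f1_up, f1_lo, ← neg_E6.1] at h3
  by_cases h20 : (2 : K) = 0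
  · have h4 := not_comm_two (F := K) inList_E6 neg_E6.2.2.1 h20
    apply h4
    rw [mul_assoc, h3]
  · exact not_comm_odd (F := K) inList_E6 neg_E6.2.2.1 h20 h3

/-- **`SL₂(q²) → ²E₆(q)`** with central kernel -/
theorem exists_hom {q : ℕ} (hq : IsPrimePow q) (hK : Fintype.card K = q ^ 2) :
    ∃ f : SpecialLinearGroup (Fin 2) K →* twistedE6 K q, KC f := by
  obtain ⟨φ, hφ⟩ := TwistedE6Sigma.exists_frob (K := K) (m := 2) hq two_ne_zero hK
  have h3 : 3 < Fintype.card K := by
    rw [hK]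
    have h2 : 2 ≤ q := hq.two_le
    nlinarith
  refine ⟨(psi φ).codRestrict _ (psi_mem hφ), ?_⟩
  intro x hx
  have h4 : x ∈ (psi φ).ker := by
    rw [MonoidHom.mem_ker]
    exact congrArg Subtype.val hx
  rcases sl_normal h3 (psi φ).ker inferInstance with h | h
  · exact absurd h (psi_ker_ne φ)
  · exact h h4

theorem evenLoc {p q : ℕ} (hp : p.Prime) (hp2 : p ≠ 2) (hpK : (p : K) ≠ 0)
    (hq : IsPrimePow q) (hK : Fintype.card K = q ^ 2) (hd : p ∣ Fintype.card K ^ 2 - 1) :
    EvenLoc p (twistedE6 K q) := by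
  classical
  haveI : Finite (GL chevE6.Idx K) := inferInstance
  obtain ⟨f, hf⟩ := exists_hom (K := K) hq hK
  exact evenLoc_of_hom_two hp hp2 hpK hd f hf

end Cfsg.Agent.H494.TwE6Five
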