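import Cfsg.Agent.H494.DefChar
import Cfsg.Agent.H494.Cross
import Cfsg.Agent.H494.PSURow
import Cfsg.Agent.H494.TwE6Five
import Cfsg.Agent.H494.DimLemma
import Cfsg.Agent.H378.ExcAdj
import Cfsg.Agent.S2378
import Cfsg.Agent.H318.SixMain
import Cfsg.Agent.H388.EvenFixAll
import Cfsg.Agent.WeakTI.BenderModel

/-!
# Groups of Lie type and elements of order `2p` (helper494)

`lie` : `Good.Row p K` for the simple groups `K` of Lie type.
-/

set_option autoImplicit false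
set_option linter.style.haveILetI false

namespace Cfsg.Agent.H494.LieRow

open Subgroup Cfsg Cfsg.Lie Matrix
open Cfsg.Agent.H494.Good Cfsg.Agent.H494.Cross Cfsg.Agent.OddHalf.LongSL

universe u

theorem char_ne_zero {F : Type*} [Field F] {l p : ℕ} [CharP F l] (hl : l.Prime) (hp : p.Prime) (hpl : p ≠ l) :
    (p : F) ≠ 0 := by
  intro h
  rw [CharP.cast_eq_zero_iff F l p] at h
  exact hpl ((Nat.prime_dvd_prime_iff_eq hl hp).1 h).symm

theorem dvd_card_char {F : Type*} [Field F] [Fintype F] {p : ℕ} [CharP F p] : p ∣ Fintype.card F := by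
  have h : ((Fintype.card F : ℕ) : F) = 0 := Nat.cast_card_eq_zero F
  rwa [CharP.cast_eq_zero_iff F p] at h

theorem not_dvd_card {F : Type*} [Field F] [Fintype F] {l p : ℕ} [CharP F l] (hl : l.Prime) (hp : p.Prime)
    (hpl : p ≠ l) : ¬ p ∣ Fintype.card F := by
  haveI : Fact l.Prime := ⟨hl⟩
  obtain ⟨k, -, hk⟩ := FiniteField.card F l
  rw [hk]
  intro h
  exact hpl ((Nat.prime_dvd_prime_iff_eq hp hl).1 (hp.dvd_of_dvd_pow h))

theorem odd_card {F : Type*} [Field F] [Fintype F] {p : ℕ} [CharP F p] (hp : p.Prime) (hp2 : p ≠ 2) :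
    Odd (Fintype.card F) := by
  haveI : Fact p.Prime := ⟨hp⟩
  obtain ⟨k, -, hk⟩ := FiniteField.card F p
  rw [hk]
  exact (hp.odd_of_ne_two hp2).pow

theorem five_le {p : ℕ} (hp : p.Prime) (hp2 : p ≠ 2) (hp3 : p ≠ 3) : 5 ≤ p := by
  have h1 := hp.two_le
  have h4 : p ≠ 4 := by rintro rfl; norm_num at hp
  omega

/-! ### Abelian Sylow subgroups -/

/-- the Chevalley data and the degrees -/
abbrev degs : List (ChevalleyDatum × List ℕ) :=
  [(Cfsg.Lie.chevG2, [2, 6]), (Cfsg.Lie.chevB2, [2, 4]), (Cfsg.Lie.chevD4, [2, 4, 4, 6]), (Cfsg.Lie.chevF4, [2, 6, 8, 12]),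
      (Cfsg.Lie.chevE6, [2, 5, 6, 8, 9, 12]), (Cfsg.Lie.chevE7, [2, 6, 8, 10, 12, 14, 18]), (Cfsg.Lie.chevE8, [2, 8, 12, 14, 18, 20, 24, 30])]

theorem ab_chev {F : Type*} [Field F] [Fintype F] (c : ChevalleyDatum × List ℕ) (hc : c ∈ degs) {p : ℕ} (hp : p.Prime)
    (hpF : ¬ p ∣ Fintype.card F) (hW : ¬ p ∣ c.2.prod) : Ab p ↥(c.1.group F) := by
  classical
  haveI : Fact p.Prime := ⟨hp⟩
  haveI : Finite ↥(c.1.group F) := inferInstance
  by_cases hd : p ∣ Nat.card ↥(c.1.group F)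
  · let P : Sylow p ↥(c.1.group F) := default
    obtain ⟨e⟩ := Cfsg.Agent.S2378.result (F := F) rfl c hc p hpF hW hd P
    refine Ab.of_sylow P ⟨⟨fun a b => e.injective ?_⟩⟩
    rw [map_mul, map_mul, mul_comm]
  · exact Ab.of_not_dvd hp fun h => hd ((dvd_pow_self p (by norm_num)).trans h)

open Cfsg.Agent.ChevalleyStructure.Elts in
theorem genSubgroup_le {D : ChevalleyDatum} {F : Type*} [Field F] (hD : InList D) (S : Set (List (ℕ × F))) :
    D.genSubgroup F S ≤ D.group F := by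
  unfold ChevalleyDatum.genSubgroup
  rw [closure_le]
  rintro g ⟨w, -, hg⟩
  have h : g = wordG hD w := Units.ext (by rw [hg, coe_wordG])
  rw [h]
  exact wordG_mem_group hD w

open Cfsg.Agent.ChevalleyStructure.Elts in
theorem ab_gen {F : Type*} [Field F] [Fintype F] (c : ChevalleyDatum × List ℕ) (hc : c ∈ degs) (hD : InList c.1) {p : ℕ}
    (hp : p.Prime) (hpF : ¬ p ∣ Fintype.card F) (hW : ¬ p ∣ c.2.prod) (S : Set (List (ℕ × F))) :
    Ab p ↥(c.1.genSubgroup F S) :=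
  (ab_chev c hc hp hpF hW).of_injective (inclusion (genSubgroup_le hD S)) (inclusion_injective _)

/-! ### The untwisted exceptional groups -/

theorem le_seven {p a b c d : ℕ} (hp : p.Prime) (h : p ∣ 2 ^ a * 3 ^ b * 5 ^ c * 7 ^ d) :
    p ≤ 3 ∨ (p = 5 ∧ c ≠ 0) ∨ (p = 7 ∧ d ≠ 0) := by
  have hq : ∀ {q k : ℕ}, q.Prime → p ∣ q ^ k → p = q ∧ k ≠ 0 := by
    intro q k hq hd
    refine ⟨(Nat.prime_dvd_prime_iff_eq hp hq).1 (hp.dvd_of_dvd_pow hd), ?_⟩
    rintro rfl
    rw [pow_zero] at hd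
    exact hp.one_lt.ne' (Nat.dvd_one.1 hd)
  rcases hp.dvd_mul.1 h with h | h
  · rcases hp.dvd_mul.1 h with h | h
    · rcases hp.dvd_mul.1 h with h | h
      · have := (hq Nat.prime_two h).1
        omega
      · have := (hq Nat.prime_three h).1
        omega
    · exact Or.inr (Or.inl (hq Nat.prime_five h))
  · exact Or.inr (Or.inr (hq Nat.prime_seven h))

theorem twoP_of_adj {K : Type*} [Group K] {r : ℕ} (h : H94.PG.Adj K r 2) : TwoP r K := by
  obtain ⟨h1, -, h3, x, y, hx, hy, hc⟩ := h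
  exact TwoP.of_commute h1 h3 hy hx hc.symm

theorem od_facts {q r m : ℕ} (hr : r.Prime) (hm : 2 ≤ m) (h : orderOf ((q : ℕ) : ZMod r) = m) :
    ¬ r ∣ q ∧ m ∣ r - 1 := by
  haveI : Fact r.Prime := ⟨hr⟩
  have h0 : ((q : ℕ) : ZMod r) ≠ 0 := by
    intro h0
    rw [h0, orderOf_zero] at h
    omega
  refine ⟨fun hd => h0 ((ZMod.natCast_eq_zero_iff _ _).2 hd), ?_⟩
  rw [← h]
  exact ZMod.orderOf_dvd_card_sub_one h0

/-- **The untwisted exceptional groups**, `p ≥ 5` -/
theorem exc_five {F : Type} [Field F] [Fintype F] {K : Type u} [Group K] [Finite K] {p : ℕ} (hp : p.Prime) (h5 : 5 ≤ p)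
    (hd : p ∣ Nat.card K)
    (h : (3 ≤ Fintype.card F ∧ Nonempty (K ≃* Lie.chevG2.group F)) ∨ Nonempty (K ≃* Lie.chevF4.group F) ∨
      Nonempty (K ≃* Lie.chevE6.group F) ∨ Nonempty (K ≃* Lie.chevE7.group F) ∨ Nonempty (K ≃* Lie.chevE8.group F)) :
    TwoP p K ∨ (Ab p K ∧ ¬ p ∣ Fintype.card F) := by
  have hno : ∀ {m : ℕ}, 2 ≤ m → H378.ExcAdj.od (Nat.card F) p = m → ¬ p ∣ Fintype.card F := by
    intro m hm hod
    rw [← Nat.card_eq_fintype_card]
    exact (od_facts hp hm hod).1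
  rcases h with ⟨-, ⟨e⟩⟩ | ⟨⟨e⟩⟩ | ⟨⟨e⟩⟩ | ⟨⟨e⟩⟩ | ⟨⟨e⟩⟩
  · rw [Nat.card_congr e.toEquiv] at hd
    have hW : ∀ p : ℕ, p.Prime → 5 ≤ p → ¬ p ∣ ([2, 6] : List ℕ).prod := by
      intro p hp h5 h
      have h1 : p ∣ 2 ^ 2 * 3 ^ 1 * 5 ^ 0 * 7 ^ 0 := h
      have := le_seven hp h1
      omega
    have key : ∀ {m : ℕ}, 2 ≤ m → H378.ExcAdj.od (Nat.card F) p = m → TwoP p K ∨ (Ab p K ∧ ¬ p ∣ Fintype.card F) := by
      intro m hm hod
      exact Or.inr ⟨(ab_chev (chevG2, [2, 6]) (by simp) hp (hno hm hod) (hW p hp h5)).congr e.symm, hno hm hod⟩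
    rcases H378.ExcAdj.adj_G2 F hp hd with h | h | h | h
    · omega
    · exact Or.inl ((twoP_of_adj h).congr e.symm)
    · exact key (by norm_num) h
    · exact key (by norm_num) h
  · rw [Nat.card_congr e.toEquiv] at hd
    have hW : ∀ p : ℕ, p.Prime → 5 ≤ p → ¬ p ∣ ([2, 6, 8, 12] : List ℕ).prod := by
      intro p hp h5 h
      have h1 : p ∣ 2 ^ 7 * 3 ^ 2 * 5 ^ 0 * 7 ^ 0 := h
      have := le_seven hp h1
      omega
    have key : ∀ {m : ℕ}, 2 ≤ m → H378.ExcAdj.od (Nat.card F) p = m → TwoP p K ∨ (Ab p K ∧ ¬ p ∣ Fintype.card F) := by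
      intro m hm hod
      exact Or.inr ⟨(ab_chev (chevF4, [2, 6, 8, 12]) (by simp) hp (hno hm hod) (hW p hp h5)).congr e.symm,
        hno hm hod⟩
    rcases H378.ExcAdj.adj_F4 F hp hd with h | h | h | h
    · omega
    · exact Or.inl ((twoP_of_adj h).congr e.symm)
    · exact key (by norm_num) h
    · exact key (by norm_num) h
  · rw [Nat.card_congr e.toEquiv] at hd
    have key : ∀ {m : ℕ}, 7 ≤ m → H378.ExcAdj.od (Nat.card F) p = m → TwoP p K ∨ (Ab p K ∧ ¬ p ∣ Fintype.card F) := by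
      intro m hm hod
      refine Or.inr ⟨(ab_chev (chevE6, [2, 5, 6, 8, 9, 12]) (by simp) hp (hno (by omega) hod) ?_).congr e.symm,
        hno (by omega) hod⟩
      intro h
      have h1 : p ∣ 2 ^ 7 * 3 ^ 4 * 5 ^ 1 * 7 ^ 0 := h
      have h2 := le_seven hp h1
      have h3 := Nat.le_of_dvd (by omega) (od_facts hp (by omega) hod).2
      omega
    rcases H378.ExcAdj.adj_E6 F hp hd with h | h | h | h | h
    · omega
    · exact Or.inl ((twoP_of_adj h).congr e.symm)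
    · exact key (by norm_num) h
    · exact key (by norm_num) h
    · exact key (by norm_num) h
  · rw [Nat.card_congr e.toEquiv] at hd
    have key : ∀ {m : ℕ}, 7 ≤ m → H378.ExcAdj.od (Nat.card F) p = m → TwoP p K ∨ (Ab p K ∧ ¬ p ∣ Fintype.card F) := by
      intro m hm hod
      refine Or.inr ⟨(ab_chev (chevE7, [2, 6, 8, 10, 12, 14, 18]) (by simp) hp (hno (by omega) hod) ?_).congr e.symm,
        hno (by omega) hod⟩
      intro h
      have h1 : p ∣ 2 ^ 10 * 3 ^ 4 * 5 ^ 1 * 7 ^ 1 := h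
      have h2 := le_seven hp h1
      have h3 := Nat.le_of_dvd (by omega) (od_facts hp (by omega) hod).2
      omega
    rcases H378.ExcAdj.adj_E7 F hp hd with h | h | h | h | h | h | h
    · omega
    · exact Or.inl ((twoP_of_adj h).congr e.symm)
    all_goals exact key (by norm_num) h
  · rw [Nat.card_congr e.toEquiv] at hd
    have key : ∀ {m : ℕ}, 7 ≤ m → H378.ExcAdj.od (Nat.card F) p = m → TwoP p K ∨ (Ab p K ∧ ¬ p ∣ Fintype.card F) := by
      intro m hm hod
      refine Or.inr ⟨(ab_chev (chevE8, [2, 8, 12, 14, 18, 20, 24, 30]) (by simp) hp (hno (by omega) hod)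
        ?_).congr e.symm, hno (by omega) hod⟩
      intro h
      have h1 : p ∣ 2 ^ 14 * 3 ^ 5 * 5 ^ 2 * 7 ^ 1 := h
      have h2 := le_seven hp h1
      have h3 := Nat.le_of_dvd (by omega) (od_facts hp (by omega) hod).2
      omega
    rcases H378.ExcAdj.adj_E8 F hp hd with h | h | h | h | h | h
    · omega
    · exact Or.inl ((twoP_of_adj h).congr e.symm)
    all_goals exact key (by norm_num) h

/-! ### The rows -/

theorem twoP_of_six {K : Type*} [Group K] (h : H318.Six K) : TwoP 3 K := by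
  obtain ⟨g, hg⟩ := h.exists_orderOf
  exact ⟨g, by rw [hg]⟩

theorem sz {K : Type u} [Group K] [Finite K] {p : ℕ} (hp : p.Prime) (hp2 : p ≠ 2) (hd : p ∣ Nat.card K)
    (h : Lie.IsoSuzuki K) : Ab p K := by
  classical
  haveI : Fact p.Prime := ⟨hp⟩
  haveI : Fact (Nat.Prime 2) := ⟨Nat.prime_two⟩
  obtain ⟨F, _, _, m, hm, hF, ⟨e⟩⟩ := h
  by_cases hp3 : p = 3
  · subst hp3
    rw [Nat.card_congr e.toEquiv] at hd
    exact absurd hd (WeakTI.BenderModel.not_three_dvd hm hF)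
  have h5 := five_le hp hp2 hp3
  haveI : CharP F 2 := charP_of_card_eq_prime_pow hF
  have hpF : (p : F) ≠ 0 := char_ne_zero Nat.prime_two hp hp2
  intro P hP
  by_contra hna
  have h1 := DimLemma.dim_le (F := F) (n := Fin 4) hp hpF hP hna
    (((Lie.Sz F (2 ^ (m + 1))).subtype.comp e.toMonoidHom).comp P.subtype) ?_
  · rw [Fintype.card_fin] at h1
    have h2 : 0 < orderOf ((Fintype.card F : ℕ) : ZMod p) := by
      have h3 : ((Fintype.card F : ℕ) : ZMod p) ≠ 0 := by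
        rw [Ne, ZMod.natCast_eq_zero_iff]
        exact not_dvd_card Nat.prime_two hp hp2
      rw [Nat.pos_iff_ne_zero]
      intro h0
      have h4 := ZMod.orderOf_dvd_card_sub_one h3
      rw [h0, zero_dvd_iff] at h4
      omega
    nlinarith
  · intro a b hab
    exact Subtype.ext (e.injective (Subtype.ext hab))

/-- **Groups of Lie type.** -/
theorem lie {l p : ℕ} (hl : l.Prime) (hp : p.Prime) (hp2 : p ≠ 2) {K : Type u} [Group K] [Finite K] [IsSimpleGroup K]
    (h : IsLieTypeChar l K) (hd : p ∣ Nat.card K) : Row p K := by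
  classical
  haveI : Fact p.Prime := ⟨hp⟩
  haveI : Fact l.Prime := ⟨hl⟩
  have hs : ∀ hpl : p ≠ l, (TwoP p K ∨ EvenLoc p K ∨ Ab p K) → Row p K := fun hpl =>
    row_of_split hp hl hpl (H388.EvenFixAll.hasSplit_of_lie hl h)
  rcases h with h | h | h | h | h | h | h | h | ⟨rfl, h⟩ | ⟨rfl, h⟩ | ⟨rfl, h⟩
  · obtain ⟨F, _, _, _, n, hn, -, ⟨e⟩⟩ := h
    by_cases hpl : p = l
    · subst hpl
      rcases eq_or_lt_of_le hn with rfl | hn3
      · exact DefChar.psl_two (F := F) hp2 e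
      · exact Or.inl (DefChar.twoP_of_hasLong ((Mat.hasLong_psl (odd_card hp hp2) hn3)) hp hp2
          (Dvd.dvd.mul_right dvd_card_char _) |>.congr e.symm)
    · exact hs hpl (ClassHom.psl (F := F) hp hp2 (char_ne_zero hl hp hpl) hn e)
  · obtain ⟨F, _, _, _, m, hm, -, ⟨e⟩⟩ := h
    by_cases hpl : p = l
    · subst hpl
      exact Or.inl (DefChar.twoP_of_hasLong ((Mat.hasLong_psp (odd_card hp hp2) hm)) hp hp2
          (Dvd.dvd.mul_right dvd_card_char _) |>.congr e.symm)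
    · exact hs hpl (ClassHom.psp (F := F) hp hp2 (char_ne_zero hl hp hpl) hm e)
  · obtain ⟨F, _, _, _, n, q, hF, hn, -, ⟨e⟩⟩ := h
    by_cases hpl : p = l
    · subst hpl
      have hpq : p ∣ q := hp.dvd_of_dvd_pow (n := 2) (by rw [← hF]; exact dvd_card_char (F := F))
      have hq : Odd q := by
        have h1 := odd_card (F := F) hp hp2
        rw [hF] at h1
        exact (Nat.odd_pow_iff two_ne_zero).1 h1
      exact Or.inl (DefChar.twoP_of_hasLong ((Mat.hasLong_psu hF hq hn)) hp hp2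
          (Dvd.dvd.mul_right hpq _) |>.congr e.symm)
    · exact hs hpl (PSURow.psu (F := F) hp hp2 (char_ne_zero hl hp hpl) hF hn e)
  · by_cases hpl : p = l
    · subst hpl
      exact Or.inl (DefChar.twoP_of_hasLong_char hp hp2 (Orth.hasLong_of_isPOmegaOddChar (hp.odd_of_ne_two hp2) h))
    · obtain ⟨F, _, _, _, m, hm, -, ⟨e⟩⟩ := h
      exact hs hpl (ClassHom.omegaOdd (F := F) hp hp2 (char_ne_zero hl hp hpl) hm e)
  · by_cases hpl : p = l
    · subst hpl
      exact Or.inl (DefChar.twoP_of_hasLong_char hp hp2 (Orth.hasLong_of_isPOmegaPlusChar (hp.odd_of_ne_two hp2) h))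
    · obtain ⟨F, _, _, _, m, hm, ⟨e⟩⟩ := h
      exact hs hpl (ClassHom.omegaPlus (F := F) hp hp2 (char_ne_zero hl hp hpl) (by omega) e)
  · by_cases hpl : p = l
    · subst hpl
      exact Or.inl (DefChar.twoP_of_hasLong_char hp hp2 (Orth.hasLong_of_isPOmegaMinusChar (hp.odd_of_ne_two hp2) h))
    · obtain ⟨F, _, _, _, m, a, b, hm, -, ⟨e⟩⟩ := h
      exact hs hpl (ClassHom.omegaMinus (F := F) hp hp2 (char_ne_zero hl hp hpl) (by omega) a b e)
  · obtain ⟨F, _, _, _, h⟩ := h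
    by_cases hp3 : p = 3
    · subst hp3
      exact Or.inl (twoP_of_six (H318.row_chev h))
    · rcases exc_five hp (five_le hp hp2 hp3) hd h with h1 | ⟨h1, h2⟩
      · exact Or.inl h1
      · refine hs ?_ (Or.inr (Or.inr h1))
        rintro rfl
        exact h2 dvd_card_char
  · by_cases hpl : p = l
    · subst hpl
      exact Or.inl (DefChar.twoP_of_hasLong_char hp hp2 (Tw.hasLong_of_twisted hp2 h))
    · obtain ⟨F, _, _, _, q, hq, h⟩ := h
      have hpF : ¬ p ∣ Fintype.card F := not_dvd_card hl hp hpl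
      rcases h with ⟨hF, ⟨e⟩⟩ | ⟨hF, ⟨e⟩⟩
      · by_cases hp3 : p = 3
        · subst hp3
          exact Or.inl (twoP_of_six (H318.row_twE6 ⟨F, _, _, q, hq, hF, ⟨e⟩⟩))
        have h5 := five_le hp hp2 hp3
        by_cases hp5 : p = 5
        · subst hp5
          refine hs hpl (Or.inr (Or.inl ?_))
          haveI : Finite (GL chevE6.Idx F) := inferInstance
          refine EvenLoc.congr e.symm (TwE6Five.evenLoc hp hp2 (char_ne_zero hl hp hpl) hq hF ?_)
          rw [hF] at hpF ⊢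
          have h1 : ¬ 5 ∣ q := fun h => hpF (h.trans (dvd_pow_self q two_ne_zero))
          have h2 : 1 ≤ (q ^ 2) ^ 2 := Nat.one_le_pow _ _ (Nat.pos_of_ne_zero (by
            rintro h0
            exact hpF (by rw [h0]; exact dvd_zero 5)))
          rw [← Nat.modEq_iff_dvd' h2]
          have h3 : q % 5 = 1 ∨ q % 5 = 2 ∨ q % 5 = 3 ∨ q % 5 = 4 := by omega
          have h4 : q ≡ q % 5 [MOD 5] := (Nat.mod_modEq q 5).symm
          have h6 := (h4.pow 2).pow 2
          rcases h3 with h3 | h3 | h3 | h3 <;> rw [h3] at h6 <;> exact (h6.trans (by decide)).symm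
        · refine hs hpl (Or.inr (Or.inr ?_))
          refine Ab.congr e.symm (ab_gen (chevE6, [2, 5, 6, 8, 9, 12]) (by simp)
            Cfsg.Agent.ETable.Exc.inList_E6 hp hpF ?_ _)
          intro h
          have h1 : p ∣ 2 ^ 7 * 3 ^ 4 * 5 ^ 1 * 7 ^ 0 := h
          have h2 := le_seven hp h1
          omega
      · by_cases hp3 : p = 3
        · subst hp3
          exact Or.inl (twoP_of_six (H318.row_twD4 ⟨F, _, _, q, hq, hF, ⟨e⟩⟩))
        have h5 := five_le hp hp2 hp3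
        refine hs hpl (Or.inr (Or.inr ?_))
        refine Ab.congr e.symm (ab_gen (chevD4, [2, 4, 4, 6]) (by simp)
          Cfsg.Agent.ETable.Exc.inList_D4 hp hpF ?_ _)
        intro h
        have h1 : p ∣ 2 ^ 6 * 3 ^ 1 * 5 ^ 0 * 7 ^ 0 := h
        have h2 := le_seven hp h1
        omega
  · exact hs hp2 (Or.inr (Or.inr (sz hp hp2 hd h)))
  · by_cases hp3 : p = 3
    · subst hp3
      exact Or.inl (twoP_of_six (H318.six_twF4 h))
    have h5 := five_le hp hp2 hp3
    obtain ⟨F, _, _, m, -, hF, ⟨e⟩⟩ := h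
    haveI : CharP F 2 := charP_of_card_eq_prime_pow hF
    refine hs hp2 (Or.inr (Or.inr ?_))
    refine Ab.congr e.symm (ab_gen (chevF4, [2, 6, 8, 12]) (by simp)
      Cfsg.Agent.ETable.Exc.inList_F4 hp (not_dvd_card Nat.prime_two hp hp2) ?_ _)
    intro h
    have h1 : p ∣ 2 ^ 7 * 3 ^ 2 * 5 ^ 0 * 7 ^ 0 := h
    have h2 := le_seven hp h1
    omega
  · by_cases hp3 : p = 3
    · subst hp3
      exact Or.inl (twoP_of_six (H318.row_ree h))
    have h5 := five_le hp hp2 hp3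
    obtain ⟨F, _, _, m, -, hF, ⟨e⟩⟩ := h
    haveI : CharP F 3 := charP_of_card_eq_prime_pow hF
    refine hs hp3 (Or.inr (Or.inr ?_))
    refine Ab.congr e.symm (ab_gen (chevG2, [2, 6]) (by simp)
      Cfsg.Agent.ETable.Exc.inList_G2 hp (not_dvd_card Nat.prime_three hp hp3) ?_ _)
    intro h
    have h1 : p ∣ 2 ^ 2 * 3 ^ 1 * 5 ^ 0 * 7 ^ 0 := h
    have h2 := le_seven hp h1
    omega

end Cfsg.Agent.H494.LieRow
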