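import Cfsg.Agent.S3982
import Cfsg.Agent.Lib.CoprimeHyperplane
import Cfsg.Agent.Lib.Cores
import Cfsg.Agent.Solvable.FpfPGroup
import Cfsg.Agent.Solvable.UniqueOrderP

/-!
# Groups of even order without elements of order `2p`: reduction to the almost simple case

* `comm_of_even_normalizer` : if some nontrivial `p`-subgroup has a normalizer of even order, then the Sylow
  `p`-subgroups are abelian;
* `reduction` : it suffices to consider groups with a nonabelian simple normal subgroup of order divisible by `p` with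
  trivial centralizer.
-/

set_option autoImplicit false
set_option linter.style.haveILetI false

namespace Cfsg.Agent.H494.NoTwoP

open Subgroup Cfsg

universe u v

section

variable {G : Type u} [Group G]

theorem false_of_commute {p : ℕ} (hp : p.Prime) (hp2 : p ≠ 2) (hno : ∀ g : G, orderOf g ≠ 2 * p)
    {a b : G} (ha : orderOf a = 2) (hb : orderOf b = p) (hc : Commute a b) : False := by
  have h1 : (orderOf a).Coprime (orderOf b) := by
    rw [ha, hb]
    exact (Nat.coprime_primes Nat.prime_two hp).2 (Ne.symm hp2)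
  exact hno (a * b) (by rw [hc.orderOf_mul_eq_mul_orderOf_of_coprime h1, ha, hb])

/-- A `p`-element has a power of order `p`. -/
theorem exists_pow_orderOf {p : ℕ} (hp : p.Prime) {g : G} (hg : g ≠ 1) {k : ℕ} (hk : orderOf g = p ^ k) :
    ∃ m : ℕ, orderOf (g ^ m) = p := by
  have hk0 : k ≠ 0 := by
    rintro rfl
    rw [pow_zero, orderOf_eq_one_iff] at hk
    exact hg hk
  refine ⟨p ^ (k - 1), ?_⟩
  rw [orderOf_pow_of_dvd (pow_ne_zero _ hp.ne_zero) (by rw [hk]; exact pow_dvd_pow p (by omega)), hk,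
    Nat.pow_div (by omega) hp.pos]
  rw [show k - (k - 1) = 1 by omega, pow_one]

theorem odd_centralizer [Finite G] {p : ℕ} (hp : p.Prime) (hp2 : p ≠ 2) (hno : ∀ g : G, orderOf g ≠ 2 * p)
    (g : G) (hg : g ≠ 1) (hk : ∃ k : ℕ, orderOf g = p ^ k) :
    Odd (Nat.card ↥(centralizer ({g} : Set G))) := by
  obtain ⟨k, hk⟩ := hk
  obtain ⟨m, hm⟩ := exists_pow_orderOf hp hg hk
  rw [← Nat.not_even_iff_odd]
  intro hev
  haveI : Fact (Nat.Prime 2) := ⟨Nat.prime_two⟩
  obtain ⟨t, ht⟩ := exists_prime_orderOf_dvd_card' (G := ↥(centralizer ({g} : Set G))) 2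
    (even_iff_two_dvd.1 hev)
  have htg : Commute (t : G) g := (mem_centralizer_singleton_iff.1 t.2)
  exact false_of_commute hp hp2 hno (a := (t : G)) (b := g ^ m) (by rw [orderOf_coe, ht]) hm
    (htg.pow_right m)

/-- A `p`-group with an automorphism of order two without fixed points is abelian. -/
theorem comm_of_inverted [Finite G] {p : ℕ} (hp : p.Prime) (hp2 : p ≠ 2) (hno : ∀ g : G, orderOf g ≠ 2 * p)
    (P : Subgroup G) (hP : IsPGroup p P) (hev : Even (Nat.card ↥(normalizer (P : Set G)))) :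
    IsMulCommutative ↥P := by
  haveI : Fact p.Prime := ⟨hp⟩
  haveI : Fact (Nat.Prime 2) := ⟨Nat.prime_two⟩
  obtain ⟨y, hy⟩ := exists_prime_orderOf_dvd_card' (G := ↥(normalizer (P : Set G))) 2
    (even_iff_two_dvd.1 hev)
  have hyG : orderOf (y : G) = 2 := by rw [orderOf_coe]; exact hy
  have hyy : y * y = 1 := by rw [← sq, ← hy, pow_orderOf_eq_one]
  let φ : ↥(normalizer (P : Set G)) →* MulAut P := P.normalizerMonoidHom
  have hfpf : MonoidHom.FixedPointFree (φ y : P → P) := by
    intro t ht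
    by_contra hne
    have h1 : (y : G) * t * (y : G)⁻¹ = t := congrArg Subtype.val ht
    obtain ⟨k, hk⟩ := IsPGroup.iff_orderOf.1 hP t
    have hk' : orderOf (t : G) = p ^ k := by rw [orderOf_coe, hk]
    obtain ⟨m, hm⟩ := exists_pow_orderOf hp (g := (t : G)) (fun h => hne (Subtype.ext h)) hk'
    have hc : Commute (y : G) t := by
      calc (y : G) * t = ((y : G) * t * (y : G)⁻¹) * y := by group
        _ = t * y := by rw [h1]
    exact false_of_commute hp hp2 hno hyG hm (hc.pow_right m)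
  have hinvol : Function.Involutive (φ y : P → P) := by
    intro t
    have : (φ y * φ y) t = t := by rw [← map_mul, hyy, map_one]; rfl
    exact this
  have hinv : ∀ t : P, φ y t = t⁻¹ := fun t =>
    congrFun (MonoidHom.FixedPointFree.coe_eq_inv_of_involutive (φ := (φ y).toMonoidHom) hfpf hinvol) t
  refine ⟨⟨fun a b => ?_⟩⟩
  have h1 : (a * b)⁻¹ = a⁻¹ * b⁻¹ := by rw [← hinv, ← hinv, ← hinv, map_mul]
  have h2 := congrArg (fun x => x⁻¹) h1
  simpa using h2

theorem comm_of_even_normalizer [Finite G] {p : ℕ} (hp : p.Prime) (hp2 : p ≠ 2)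
    (hno : ∀ g : G, orderOf g ≠ 2 * p) {Q : Subgroup G} (hQ : IsPGroup p Q) (hQ1 : Q ≠ ⊥)
    (hev : Even (Nat.card ↥(normalizer (Q : Set G)))) (P : Subgroup G) (hP : IsPGroup p P) :
    IsMulCommutative ↥P := by
  haveI : Fact p.Prime := ⟨hp⟩
  have hpG : p ∣ Nat.card G := by
    have h1 : Nat.card Q ≠ 1 := by rwa [Ne, Subgroup.card_eq_one]
    obtain ⟨k, hk⟩ := IsPGroup.iff_card.1 hQ
    have hk0 : k ≠ 0 := by rintro rfl; exact h1 (by rw [hk, pow_zero])
    exact ((dvd_pow_self p hk0).trans (by rw [hk])).trans (Subgroup.card_subgroup_dvd_card Q)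
  have h2G : 2 ∣ Nat.card G := (even_iff_two_dvd.1 hev).trans (Subgroup.card_subgroup_dvd_card _)
  obtain ⟨R, hR⟩ := hP.exists_le_sylow
  have h1 := Cfsg.Agent.S3982.result p hp2 hpG h2G (odd_centralizer hp hp2 hno) Q hQ hQ1 hev R
  have h2 := comm_of_inverted hp hp2 hno (R : Subgroup G) R.isPGroup' h1
  refine ⟨⟨fun a b => ?_⟩⟩
  have h3 := h2.is_comm.comm ⟨(a : G), hR a.2⟩ ⟨(b : G), hR b.2⟩
  exact Subtype.ext (congrArg (fun x : R => (x : G)) h3)

/-- Sylow subgroups of `G` inside the normalizer of a Sylow `q`-subgroup of a normal `p'`-subgroup of order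
divisible by `q = 2`: Sylow `p`-subgroups of `G` are cyclic if there are no elements of order `2p`. -/
theorem comm_of_normal [Finite G] {p : ℕ} (hp : p.Prime) (hp2 : p ≠ 2) (hno : ∀ g : G, orderOf g ≠ 2 * p)
    (N : Subgroup G) [N.Normal] (hpN : ¬ p ∣ Nat.card N) (h2N : 2 ∣ Nat.card N) (P : Subgroup G)
    (hP : IsPGroup p P) : IsMulCommutative ↥P := by
  haveI : Fact p.Prime := ⟨hp⟩
  haveI : Fact (Nat.Prime 2) := ⟨Nat.prime_two⟩
  obtain ⟨T, hT⟩ := Cfsg.Agent.Lib.CoprimeHyperplane.exists_invariant_sylow hP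
    (Subgroup.le_normalizer_of_normal : P ≤ normalizer (N : Set G)) hpN 2
  set K : Subgroup G := (T : Subgroup N).map N.subtype with hK
  have hK2 : IsPGroup 2 K := T.isPGroup'.map _
  have hK1 : K ≠ ⊥ := by
    intro hb
    have h1 : (T : Subgroup N) = ⊥ :=
      (Subgroup.map_eq_bot_iff_of_injective _ N.subtype_injective).1 hb
    have h2 : 2 ∣ Nat.card T := T.dvd_card_of_dvd_card h2N
    rw [h1, Subgroup.card_bot] at h2
    omega
  have hfpf : ∀ a ∈ P, a ≠ 1 → K ⊓ centralizer {a} = ⊥ := by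
    intro a ha ha1
    rw [eq_bot_iff]
    rintro t ⟨ht1, ht2⟩
    by_contra hne
    rw [Subgroup.mem_bot] at hne
    obtain ⟨k, hk⟩ := IsPGroup.iff_orderOf.1 hP ⟨a, ha⟩
    rw [Subgroup.orderOf_mk] at hk
    obtain ⟨j, hj⟩ := IsPGroup.iff_orderOf.1 hK2 ⟨t, ht1⟩
    rw [Subgroup.orderOf_mk] at hj
    obtain ⟨m, hm⟩ := exists_pow_orderOf hp ha1 hk
    obtain ⟨n, hn⟩ := exists_pow_orderOf Nat.prime_two hne hj
    have hc : Commute t a := (mem_centralizer_singleton_iff.1 ht2)
    exact false_of_commute hp hp2 hno hn hm (hc.pow_pow n m)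
  have hU : Cfsg.Agent.Solvable.UniqueOrderP.UniqueP p P := by
    intro x y hx hxp hyp
    by_cases hy : y = 1
    · rw [hy]; exact one_mem _
    have h1 : zpowers x = zpowers y :=
      Cfsg.Agent.Solvable.FpfPGroup.unique_subgroup_of_fpf P K hK1 hT hfpf hp hP P.subtype
        P.subtype_injective (fun x => x.2) (zpowers x) (zpowers y)
        (by rw [Nat.card_zpowers]; exact orderOf_eq_prime hxp hx)
        (by rw [Nat.card_zpowers]; exact orderOf_eq_prime hyp hy)
    rw [h1]
    exact mem_zpowers y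
  haveI := Cfsg.Agent.Solvable.UniqueOrderP.isCyclic_of_uniqueP hp2 hP hU
  exact IsCyclic.isMulCommutative

end

/-- The almost simple case. -/
def AS (p : ℕ) : Prop :=
  ∀ (G : Type u) [Group G] [Finite G] (S : Subgroup G) [S.Normal], IsSimpleGroup ↥S → ¬ IsMulCommutative ↥S →
    centralizer (S : Set G) = ⊥ → p ∣ Nat.card S → (∀ g : G, orderOf g ≠ 2 * p) →
    ∀ P : Subgroup G, IsPGroup p P → IsMulCommutative ↥P

theorem dvd_quot {G : Type u} [Group G] [Finite G] {p : ℕ} (N : Subgroup G) [N.Normal]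
    (hno : ∀ g : G, orderOf g ≠ 2 * p) : ∀ g : G ⧸ N, orderOf g ≠ 2 * p := by
  intro y hy
  obtain ⟨x, rfl⟩ := QuotientGroup.mk'_surjective N y
  have h1 : 2 * p ∣ orderOf x := by
    rw [← hy]
    exact orderOf_map_dvd (QuotientGroup.mk' N) x
  obtain ⟨k, hk⟩ := h1
  have hx0 : orderOf x ≠ 0 := (orderOf_pos x).ne'
  have hk0 : k ≠ 0 := by
    rintro rfl
    exact hx0 (by rw [hk, mul_zero])
  have h20 : 2 * p ≠ 0 := by
    rintro h0
    rw [h0, zero_mul] at hk
    exact hx0 hk
  refine hno (x ^ k) ?_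
  rw [orderOf_pow_of_dvd hk0 ⟨2 * p, by rw [hk, mul_comm]⟩, hk, Nat.mul_div_cancel _ (Nat.pos_of_ne_zero hk0)]

theorem reduction (p : ℕ) (hp : p.Prime) (hp2 : p ≠ 2) (hAS : AS.{u} p) :
    ∀ (n : ℕ) (G : Type u) [Group G] [Finite G], Nat.card G = n → Even (Nat.card G) →
      (∀ g : G, orderOf g ≠ 2 * p) → ∀ P : Subgroup G, IsPGroup p P → IsMulCommutative ↥P := by
  intro n
  induction n using Nat.strong_induction_on with
  | _ n ih =>
  intro G _ _ hn heven hno P hP
  haveI : Fact p.Prime := ⟨hp⟩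
  haveI : Fact (Nat.Prime 2) := ⟨Nat.prime_two⟩
  by_cases hpG : p ∣ Nat.card G
  swap
  · -- `P` is trivial
    obtain ⟨k, hk⟩ := IsPGroup.iff_card.1 hP
    have hk0 : k = 0 := by
      by_contra hk0
      exact hpG (((dvd_pow_self p hk0).trans (by rw [hk])).trans (Subgroup.card_subgroup_dvd_card P))
    rw [hk0, pow_zero, Subgroup.card_eq_one] at hk
    subst hk
    infer_instance
  -- the odd core
  by_cases hO : pPrimeCore 2 G = ⊥
  swap
  · by_cases hpO : p ∣ Nat.card (pPrimeCore 2 G)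
    · -- a Sylow `2`-subgroup normalizes a Sylow `p`-subgroup of the odd core
      let T : Sylow 2 G := default
      have h2O : ¬ 2 ∣ Nat.card (pPrimeCore 2 G) := by
        intro hd
        have := Cfsg.Agent.Lib.Cores.pPrimeCore_coprime (G := G) 2
        rw [Nat.coprime_two_right] at this
        exact (Nat.not_even_iff_odd.2 this) (even_iff_two_dvd.2 hd)
      obtain ⟨Q, hQ⟩ := Cfsg.Agent.Lib.CoprimeHyperplane.exists_invariant_sylow T.isPGroup'
        (Subgroup.le_normalizer_of_normal : (T : Subgroup G) ≤ normalizer (pPrimeCore 2 G : Set G)) h2O p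
      refine comm_of_even_normalizer hp hp2 hno (Q := (Q : Subgroup (pPrimeCore 2 G)).map
        (pPrimeCore 2 G).subtype) (Q.isPGroup'.map _) ?_ ?_ P hP
      · intro hb
        have h1 := (Subgroup.map_eq_bot_iff_of_injective _ (pPrimeCore 2 G).subtype_injective).1 hb
        have h2 : p ∣ Nat.card Q := Q.dvd_card_of_dvd_card hpO
        rw [h1, Subgroup.card_bot] at h2
        exact hp.one_lt.ne' (Nat.dvd_one.1 h2)
      · rw [even_iff_two_dvd] at heven ⊢
        exact (T.dvd_card_of_dvd_card heven).trans (Subgroup.card_dvd_of_le hQ)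
    · -- pass to the quotient
      have hlt : Nat.card (G ⧸ pPrimeCore 2 G) < n := by
        rw [← hn]
        have h1 := Subgroup.card_eq_card_quotient_mul_card_subgroup (pPrimeCore 2 G)
        have h2 : 1 < Nat.card (pPrimeCore 2 G) := by
          rw [Finite.one_lt_card_iff_nontrivial]
          exact (Subgroup.nontrivial_iff_ne_bot _).2 hO
        have h3 : 0 < Nat.card (G ⧸ pPrimeCore 2 G) := Nat.card_pos
        rw [h1]
        nlinarith
      have hev : Even (Nat.card (G ⧸ pPrimeCore 2 G)) := by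
        have h1 := Subgroup.card_eq_card_quotient_mul_card_subgroup (pPrimeCore 2 G)
        rw [h1] at heven
        rcases Nat.even_mul.1 heven with h2 | h2
        · exact h2
        · exfalso
          have := Cfsg.Agent.Lib.Cores.pPrimeCore_coprime (G := G) 2
          rw [Nat.coprime_two_right] at this
          exact (Nat.not_even_iff_odd.2 this) h2
      have h1 := ih _ hlt (G ⧸ pPrimeCore 2 G) rfl hev (dvd_quot _ hno)
        (P.map (QuotientGroup.mk' (pPrimeCore 2 G))) (hP.map _)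
      have hdisj : ∀ x ∈ P, (x : G ⧸ pPrimeCore 2 G) = 1 → x = 1 := by
        intro x hx hx1
        rw [QuotientGroup.eq_one_iff] at hx1
        obtain ⟨k, hk⟩ := IsPGroup.iff_orderOf.1 hP ⟨x, hx⟩
        rw [Subgroup.orderOf_mk] at hk
        have h2 : orderOf x ∣ Nat.card (pPrimeCore 2 G) := by
          have := orderOf_dvd_natCard (⟨x, hx1⟩ : pPrimeCore 2 G)
          rwa [Subgroup.orderOf_mk] at this
        have hk0 : k = 0 := by
          by_contra hk0
          exact hpO ((dvd_pow_self p hk0).trans (by rwa [← hk]))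
        rwa [hk0, pow_zero, orderOf_eq_one_iff] at hk
      refine ⟨⟨fun a b => ?_⟩⟩
      have h3 := h1.is_comm.comm ⟨_, ⟨(a : G), a.2, rfl⟩⟩ ⟨_, ⟨(b : G), b.2, rfl⟩⟩
      have h4 : ((a : G) : G ⧸ pPrimeCore 2 G) * ((b : G) : G ⧸ pPrimeCore 2 G)
          = ((b : G) : G ⧸ pPrimeCore 2 G) * ((a : G) : G ⧸ pPrimeCore 2 G) :=
        congrArg Subtype.val h3
      have h5 : (((b * a : P)⁻¹ * (a * b) : P) : G) = 1 := by
        apply hdisj _ (Subtype.mem _)
        push_cast
        change (QuotientGroup.mk' (pPrimeCore 2 G)) (((b : G) * a)⁻¹ * ((a : G) * b)) = 1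
        rw [map_mul, map_inv, map_mul, map_mul]
        change (((b : G) : G ⧸ pPrimeCore 2 G) * ((a : G) : G ⧸ pPrimeCore 2 G))⁻¹ *
          (((a : G) : G ⧸ pPrimeCore 2 G) * ((b : G) : G ⧸ pPrimeCore 2 G)) = 1
        rw [h4]
        group
      have h6 : (b * a : P)⁻¹ * (a * b) = 1 := Subtype.ext h5
      rw [inv_mul_eq_one] at h6
      exact h6.symm
  -- a minimal normal subgroup
  classical
  haveI : Nontrivial G := by
    rw [← Finite.one_lt_card_iff_nontrivial]
    exact lt_of_lt_of_le hp.one_lt (Nat.le_of_dvd Nat.card_pos hpG)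
  obtain ⟨N, ⟨hNn, hN1⟩, hNmin⟩ := Set.Finite.exists_minimal
    (s := {N : Subgroup G | N.Normal ∧ N ≠ ⊥}) (Set.toFinite _) ⟨⊤, inferInstance, top_ne_bot⟩
  haveI := hNn
  have h2N : 2 ∣ Nat.card N := by
    by_contra hd
    have h1 : N ≤ pPrimeCore 2 G := Cfsg.Agent.Lib.Cores.le_pPrimeCore hNn (by
      rw [Nat.coprime_two_right, ← Nat.not_even_iff_odd, even_iff_two_dvd]; exact hd)
    rw [hO, le_bot_iff] at h1
    exact hN1 h1
  by_cases hpN : p ∣ Nat.card N
  swap
  · exact comm_of_normal hp hp2 hno N hpN h2N P hP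
  -- nontrivial normal subgroups of `N` have order divisible by `2` and `p`
  have hcore : ∀ q : ℕ, q.Prime → q ∣ Nat.card N → pPrimeCore q N = ⊥ := by
    intro q hq hqN
    have h1 := Cfsg.Agent.Lib.Cores.map_subtype_pPrimeCore (G := G) q hNn
    have h2 : ((pPrimeCore q N).map N.subtype).Normal := by rw [h1]; infer_instance
    by_contra hne
    have h3 : (pPrimeCore q N).map N.subtype ≠ ⊥ := fun hb =>
      hne ((Subgroup.map_eq_bot_iff_of_injective _ N.subtype_injective).1 hb)
    have h4 : N ≤ (pPrimeCore q N).map N.subtype := hNmin ⟨h2, h3⟩ (map_subtype_le _)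
    have h5 : Nat.card N ∣ Nat.card (pPrimeCore q N) := by
      have := Subgroup.card_dvd_of_le h4
      rwa [Subgroup.card_map_of_injective N.subtype_injective] at this
    have h6 := Cfsg.Agent.Lib.Cores.pPrimeCore_coprime (G := N) q
    have h7 : q ∣ 1 := by
      rw [← h6]
      exact Nat.dvd_gcd (hqN.trans h5) dvd_rfl
    exact hq.one_lt.ne' (Nat.dvd_one.1 h7)
  have hdvd : ∀ (K : Subgroup N), K.Normal → K ≠ ⊥ → ∀ q : ℕ, q.Prime → q ∣ Nat.card N →
      q ∣ Nat.card K := by
    intro K hK hK1 q hq hqN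
    by_contra hd
    have h1 : K ≤ pPrimeCore q N := Cfsg.Agent.Lib.Cores.le_pPrimeCore hK
      ((Nat.coprime_comm.1 ((Nat.Prime.coprime_iff_not_dvd hq).2 hd)))
    rw [hcore q hq hqN, le_bot_iff] at h1
    exact hK1 h1
  have hmeet : ∀ K L : Subgroup N, K.Normal → L.Normal → K ≠ ⊥ → L ≠ ⊥ → K ⊓ L ≠ ⊥ := by
    intro K L hK hL hK1 hL1 hb
    obtain ⟨t, ht⟩ := exists_prime_orderOf_dvd_card' (G := K) 2 (hdvd K hK hK1 2 Nat.prime_two h2N)
    obtain ⟨x, hx⟩ := exists_prime_orderOf_dvd_card' (G := L) p (hdvd L hL hL1 p hp hpN)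
    have hc : Commute (t : N) (x : N) :=
      commute_of_normal_of_disjoint K L hK hL (disjoint_iff.mpr hb) _ _ t.2 x.2
    exact false_of_commute hp hp2 hno (a := ((t : N) : G)) (b := ((x : N) : G))
      (by rw [orderOf_coe, orderOf_coe, ht]) (by rw [orderOf_coe, orderOf_coe, hx])
      (congrArg Subtype.val hc)
  haveI : Nontrivial N := (Subgroup.nontrivial_iff_ne_bot N).2 hN1
  obtain ⟨W, ⟨hWn, hW1⟩, hWmin⟩ := Set.Finite.exists_minimal
    (s := {W : Subgroup N | W.Normal ∧ W ≠ ⊥}) (Set.toFinite _) ⟨⊤, inferInstance, top_ne_bot⟩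
  have hWle : ∀ K : Subgroup N, K.Normal → K ≠ ⊥ → W ≤ K := by
    intro K hK hK1
    haveI := hWn
    haveI := hK
    exact (hWmin ⟨inferInstance, hmeet W K hWn hK hW1 hK1⟩ inf_le_left).trans inf_le_right
  have hWt : W = ⊤ := by
    haveI : W.Characteristic := by
      rw [Subgroup.characteristic_iff_le_map]
      intro φ
      apply hWle
      · exact Cfsg.Agent.Lib.Cores.map_normal_of_surjective φ.surjective hWn
      · intro hb
        exact hW1 ((Subgroup.map_eq_bot_iff_of_injective _ φ.injective).mp hb)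
    have h1 : N ≤ W.map N.subtype := by
      apply hNmin ⟨inferInstance, ?_⟩ (map_subtype_le _)
      intro hb
      exact hW1 ((Subgroup.map_eq_bot_iff_of_injective _ N.subtype_injective).mp hb)
    rw [eq_top_iff]
    rintro ⟨m, hm⟩ -
    obtain ⟨w, hw, hwm⟩ := h1 hm
    have : w = ⟨m, hm⟩ := Subtype.ext hwm
    rwa [← this]
  have hsimple : IsSimpleGroup N := by
    refine ⟨fun K hK => ?_⟩
    by_cases hK1 : K = ⊥
    · exact Or.inl hK1
    · right
      have := hWle K hK hK1
      rwa [hWt, top_le_iff] at this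
  obtain ⟨t, ht⟩ := exists_prime_orderOf_dvd_card' (G := N) 2 h2N
  obtain ⟨x, hx⟩ := exists_prime_orderOf_dvd_card' (G := N) p hpN
  have hnc : ¬ IsMulCommutative N := by
    intro hcomm
    exact false_of_commute hp hp2 hno (a := (t : G)) (b := (x : G)) (by rw [orderOf_coe, ht])
      (by rw [orderOf_coe, hx]) (congrArg Subtype.val (hcomm.is_comm.comm t x))
  have hcent : centralizer (N : Set G) = ⊥ := by
    by_contra hne
    have h2C : 2 ∣ Nat.card ↥(centralizer (N : Set G)) := by
      by_contra hd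
      have h1 : centralizer (N : Set G) ≤ pPrimeCore 2 G :=
        Cfsg.Agent.Lib.Cores.le_pPrimeCore inferInstance (by
          rw [Nat.coprime_two_right, ← Nat.not_even_iff_odd, even_iff_two_dvd]; exact hd)
      rw [hO, le_bot_iff] at h1
      exact hne h1
    obtain ⟨s, hs⟩ := exists_prime_orderOf_dvd_card' (G := ↥(centralizer (N : Set G))) 2 h2C
    exact false_of_commute hp hp2 hno (a := (s : G)) (b := (x : G)) (by rw [orderOf_coe, hs])
      (by rw [orderOf_coe, hx]) ((mem_centralizer_iff.1 s.2 _ x.2).symm)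
  exact hAS G N hsimple hnc hcent hpN hno P hP

end Cfsg.Agent.H494.NoTwoP
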